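import Groth.Agent.SpecSeq.RightDerivedPlus
import Groth.Agent.SiteCoh.Derived

/-!
# Right derived functors and short complexes with an injective first term

The kernel of `H(F S) ⟶ F H(S)` for a short complex `S` with injective first term is
`R¹F(ker S.f)`; dimension shifting along short exact sequences.
-/

set_option autoImplicit false
set_option linter.all false
set_option backward.isDefEq.respectTransparency false
set_option backward.defeqAttrib.useBackward true

universe v v' u u'

open CategoryTheory CategoryTheory.Limits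

namespace Groth.Agent.SiteCmp16

variable {C : Type u} [Category.{v} C] [Abelian C]
  {D : Type u'} [Category.{v'} D] [Abelian D] (F : C ⥤ D) [F.Additive]

/-- Two injective embeddings of the same object have the same cokernel after applying `F`. -/
theorem nonempty_cokernel_iso {S T : ShortComplex C} (hS : S.ShortExact) (hT : T.ShortExact)
    [Injective S.X₂] [Injective T.X₂] (e : S.X₁ ≅ T.X₁) :
    Nonempty (cokernel (F.map S.g) ≅ cokernel (F.map T.g)) := by
  haveI := hS.mono_f
  haveI := hT.mono_f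
  haveI := hS.epi_g
  haveI := hT.epi_g
  let α : S.X₂ ⟶ T.X₂ := Injective.factorThru (e.hom ≫ T.f) S.f
  have hα : S.f ≫ α = e.hom ≫ T.f := Injective.comp_factorThru _ _
  let δ : T.X₂ ⟶ S.X₂ := Injective.factorThru (e.inv ≫ S.f) T.f
  have hδ : T.f ≫ δ = e.inv ≫ S.f := Injective.comp_factorThru _ _
  let β : S.X₃ ⟶ T.X₃ := hS.exact.desc (α ≫ T.g) (by
    rw [← Category.assoc, hα, Category.assoc, T.zero, comp_zero])
  have hβ : S.g ≫ β = α ≫ T.g := hS.exact.g_desc _ _
  let γ : T.X₃ ⟶ S.X₃ := hT.exact.desc (δ ≫ S.g) (by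
    rw [← Category.assoc, hδ, Category.assoc, S.zero, comp_zero])
  have hγ : T.g ≫ γ = δ ≫ S.g := hT.exact.g_desc _ _
  let h : S.X₃ ⟶ S.X₂ := hS.exact.desc (α ≫ δ - 𝟙 _) (by
    rw [Preadditive.comp_sub, reassoc_of% hα, hδ, Category.comp_id, Iso.hom_inv_id_assoc, sub_self])
  have hh : S.g ≫ h = α ≫ δ - 𝟙 _ := hS.exact.g_desc _ _
  let k : T.X₃ ⟶ T.X₂ := hT.exact.desc (δ ≫ α - 𝟙 _) (by
    rw [Preadditive.comp_sub, reassoc_of% hδ, hα, Category.comp_id, Iso.inv_hom_id_assoc, sub_self])
  have hk : T.g ≫ k = δ ≫ α - 𝟙 _ := hT.exact.g_desc _ _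
  have e₁ : β ≫ γ = 𝟙 _ + h ≫ S.g := by
    rw [← cancel_epi S.g, reassoc_of% hβ, hγ, Preadditive.comp_add, Category.comp_id, reassoc_of% hh,
      Preadditive.sub_comp, Category.assoc, Category.id_comp, add_sub_cancel]
  have e₂ : γ ≫ β = 𝟙 _ + k ≫ T.g := by
    rw [← cancel_epi T.g, reassoc_of% hγ, hβ, Preadditive.comp_add, Category.comp_id, reassoc_of% hk,
      Preadditive.sub_comp, Category.assoc, Category.id_comp, add_sub_cancel]
  refine ⟨⟨cokernel.desc _ (F.map β ≫ cokernel.π _) ?_, cokernel.desc _ (F.map γ ≫ cokernel.π _) ?_, ?_, ?_⟩⟩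
  · rw [← F.map_comp_assoc, hβ, F.map_comp, Category.assoc, cokernel.condition, comp_zero]
  · rw [← F.map_comp_assoc, hγ, F.map_comp, Category.assoc, cokernel.condition, comp_zero]
  · ext
    rw [cokernel.π_desc_assoc, Category.assoc, cokernel.π_desc, ← F.map_comp_assoc, e₁, F.map_add,
      Preadditive.add_comp, F.map_id, Category.id_comp, F.map_comp, Category.assoc, cokernel.condition,
      comp_zero, add_zero, Category.comp_id]
  · ext
    rw [cokernel.π_desc_assoc, Category.assoc, cokernel.π_desc, ← F.map_comp_assoc, e₂, F.map_add,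
      Preadditive.add_comp, F.map_id, Category.id_comp, F.map_comp, Category.assoc, cokernel.condition,
      comp_zero, add_zero, Category.comp_id]

variable [PreservesFiniteLimits F]

/-- Homology of the image of a short complex, through the kernel of its second map. -/
theorem nonempty_homology_map_iso (S : ShortComplex C) :
    Nonempty ((S.map F).homology ≅ cokernel (F.map (kernel.lift S.g S.f S.zero))) := by
  let hi : IsLimit (KernelFork.ofι (f := (S.map F).g) (F.map (kernel.ι S.g))
      (by rw [ShortComplex.map_g, ← F.map_comp, kernel.condition, F.map_zero])) :=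
    KernelFork.mapIsLimit _ (kernelIsKernel S.g) F
  let h : (S.map F).LeftHomologyData :=
    { K := F.obj (kernel S.g)
      H := cokernel (F.map (kernel.lift S.g S.f S.zero))
      i := F.map (kernel.ι S.g)
      π := cokernel.π _
      wi := _
      hi := hi
      wπ := ?_
      hπ := ?_ }
  · exact ⟨h.homologyIso⟩
  all_goals
    have e : hi.lift (KernelFork.ofι (S.map F).f (S.map F).zero) = F.map (kernel.lift S.g S.f S.zero) := by
      refine Fork.IsLimit.hom_ext hi ((Fork.IsLimit.lift_ι hi).trans ?_)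
      exact (congrArg F.map (kernel.lift_ι S.g S.f S.zero)).symm.trans (F.map_comp _ _)
  · exact (congrArg (· ≫ cokernel.π _) e).trans (cokernel.condition _)
  · exact CokernelCofork.IsColimit.ofπ _ _
      (fun g hg => cokernel.desc _ g ((congrArg (· ≫ g) e).symm.trans hg))
      (fun g hg => cokernel.π_desc _ _ _)
      (fun g hg m hm => coequalizer.hom_ext (hm.trans (cokernel.π_desc _ _ _).symm))

variable [HasInjectiveResolutions C]

/-- `R¹F` is the cokernel on an injective embedding. -/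
theorem nonempty_rightDerived_one_iso {S : ShortComplex C} (hS : S.ShortExact) [Injective S.X₂] :
    Nonempty ((F.rightDerived 1).obj S.X₁ ≅ cokernel (F.map S.g)) := by
  let R := injectiveResolution S.X₁
  let T : ShortComplex C := ShortComplex.mk (R.ι.f 0 : S.X₁ ⟶ R.cocomplex.X 0)
    (kernel.lift (R.cocomplex.d 1 2) (R.cocomplex.d 0 1) (R.cocomplex.d_comp_d _ _ _)) (by
      rw [← cancel_mono (kernel.ι _), Category.assoc, kernel.lift_ι, R.ι_f_zero_comp_complex_d, zero_comp])
  have hT : T.ShortExact :=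
    { exact := by
        have hker : (ShortComplex.mk (R.ι.f 0) (R.cocomplex.d 0 1) R.ι_f_zero_comp_complex_d).Exact :=
          ShortComplex.exact_of_f_is_kernel _ R.isLimitKernelFork
        exact (ShortComplex.exact_iff_of_epi_of_isIso_of_mono
          (S₁ := T) (S₂ := ShortComplex.mk (R.ι.f 0) (R.cocomplex.d 0 1) R.ι_f_zero_comp_complex_d)
          { τ₁ := 𝟙 _, τ₂ := 𝟙 _, τ₃ := kernel.ι _ }).2 hker
      mono_f := inferInstanceAs (Mono (R.ι.f 0))
      epi_g := (ShortComplex.exact_iff_epi_kernel_lift _).1 (R.exact_succ 0) }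
  haveI : Injective T.X₂ := R.injective 0
  obtain ⟨e⟩ := nonempty_cokernel_iso F hS hT (Iso.refl _)
  obtain ⟨e'⟩ := nonempty_homology_map_iso F (R.cocomplex.sc' 0 1 2)
  exact ⟨R.isoRightDerivedObj F 1 ≪≫
    ((F.mapHomologicalComplex _).obj R.cocomplex).homologyIsoSc' 0 1 2 (by simp) (by simp) ≪≫ e' ≪≫ e.symm⟩

variable [EnoughInjectives C]

/-- Vanishing of a derived functor on an extension. -/
theorem isZero_rightDerived_X₂ {S : ShortComplex C} (hS : S.ShortExact) (q : ℕ)
    (h₁ : IsZero ((F.rightDerived q).obj S.X₁)) (h₃ : IsZero ((F.rightDerived q).obj S.X₃)) :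
    IsZero ((F.rightDerived q).obj S.X₂) := by
  let _ := HasDerivedCategory.standard C
  let _ := HasDerivedCategory.standard D
  obtain ⟨δ, hT⟩ := SpecSeq.exists_plus_singleTriangle hS
  obtain ⟨e₁⟩ := SpecSeq.nonempty_rdSingle_iso F S.X₁ q
  obtain ⟨e₂⟩ := SpecSeq.nonempty_rdSingle_iso F S.X₂ q
  obtain ⟨e₃⟩ := SpecSeq.nonempty_rdSingle_iso F S.X₃ q
  exact (((SpecSeq.rdH F).homologySequence_exact₂ _ hT (q : ℤ)).isZero_X₂
    ((h₁.of_iso e₁).eq_of_src _ _) ((h₃.of_iso e₃).eq_of_tgt _ _)).of_iso e₂.symm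

/-- The degree shift along a short exact sequence with injective middle term. -/
theorem nonempty_rightDerived_shift {S : ShortComplex C} (hS : S.ShortExact) [Injective S.X₂]
    (q : ℕ) (hq : 1 ≤ q) :
    Nonempty ((F.rightDerived q).obj S.X₃ ≅ (F.rightDerived (q + 1)).obj S.X₁) := by
  let _ := HasDerivedCategory.standard C
  let _ := HasDerivedCategory.standard D
  obtain ⟨k, rfl⟩ : ∃ k, q = k + 1 := ⟨q - 1, by omega⟩
  obtain ⟨e₂⟩ := SpecSeq.nonempty_rdSingle_iso F S.X₂ (k + 1)
  obtain ⟨e₂'⟩ := SpecSeq.nonempty_rdSingle_iso F S.X₂ (k + 1 + 1)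
  obtain ⟨e₃⟩ := SpecSeq.nonempty_rdSingle_iso F S.X₃ (k + 1)
  obtain ⟨e₁⟩ := SpecSeq.nonempty_rdSingle_iso F S.X₁ (k + 1 + 1)
  obtain ⟨δ, hδ⟩ := SpecSeq.exists_isIso_rdSingle (F := F) hS ((k + 1 : ℕ) : ℤ) ((k + 1 + 1 : ℕ) : ℤ)
    (by push_cast; ring)
    ((Functor.isZero_rightDerived_obj_injective_succ F k _).of_iso e₂)
    ((Functor.isZero_rightDerived_obj_injective_succ F (k + 1) _).of_iso e₂')
  exact ⟨e₃.symm ≪≫ asIso δ ≪≫ e₁⟩

/-- The sequence `0 ⟶ ker f ⟶ X₁ ⟶ image f ⟶ 0`. -/
noncomputable abbrev imSeq {X Y : C} (f : X ⟶ Y) : ShortComplex C :=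
  ShortComplex.mk (kernel.ι f) (Abelian.factorThruImage f) (by
    rw [← cancel_mono (Abelian.image.ι f), Category.assoc, Abelian.image.fac, kernel.condition, zero_comp])

theorem imSeq_shortExact {X Y : C} (f : X ⟶ Y) : (imSeq f).ShortExact where
  exact := (ShortComplex.exact_iff_of_epi_of_isIso_of_mono
      (S₁ := imSeq f) (S₂ := ShortComplex.mk (kernel.ι f) f (kernel.condition f))
      { τ₁ := 𝟙 _, τ₂ := 𝟙 _, τ₃ := Abelian.image.ι f }).2 (ShortComplex.exact_kernel f)
  mono_f := inferInstance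
  epi_g := inferInstance

/-- The sequence `0 ⟶ image f ⟶ ker g ⟶ H ⟶ 0`. -/
theorem exists_homologySeq (S : ShortComplex C) :
    ∃ (b : Abelian.image S.f ⟶ kernel S.g) (p : kernel S.g ⟶ S.homology) (w : b ≫ p = 0),
      (ShortComplex.mk b p w).ShortExact ∧
        Abelian.factorThruImage S.f ≫ b = kernel.lift S.g S.f S.zero := by
  let b : Abelian.image S.f ⟶ kernel S.g := kernel.lift S.g (Abelian.image.ι S.f) (by
    rw [← cancel_epi (Abelian.factorThruImage S.f), ← Category.assoc, Abelian.image.fac, S.zero, comp_zero])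
  have hb : b ≫ kernel.ι S.g = Abelian.image.ι S.f := kernel.lift_ι _ _ _
  haveI : Mono b := mono_of_mono_fac hb
  have hfb : Abelian.factorThruImage S.f ≫ b = kernel.lift S.g S.f S.zero := by
    rw [← cancel_mono (kernel.ι S.g), Category.assoc, hb]
    exact (Abelian.image.fac S.f).trans (kernel.lift_ι S.g S.f S.zero).symm
  let e : S.leftHomology ≅ cokernel (kernel.lift S.g S.f S.zero) := S.leftHomologyIsoCokernelLift
  let p : kernel S.g ⟶ S.homology := cokernel.π _ ≫ e.inv ≫ S.leftHomologyIso.hom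
  have w : b ≫ p = 0 := by
    rw [← cancel_epi (Abelian.factorThruImage S.f), reassoc_of% hfb]
    exact (cokernel.condition_assoc _ _).trans (zero_comp.trans comp_zero.symm)
  refine ⟨b, p, w, ⟨?_⟩, hfb⟩
  haveI : Epi (cokernel.π (kernel.lift S.g S.f S.zero)) := inferInstance
  have h' : (ShortComplex.mk (kernel.lift S.g S.f S.zero) (cokernel.π _) (cokernel.condition _)).Exact :=
    ShortComplex.exact_cokernel _
  let φ : ShortComplex.mk (kernel.lift S.g S.f S.zero) (cokernel.π _) (cokernel.condition _) ⟶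
      ShortComplex.mk b p w :=
    { τ₁ := Abelian.factorThruImage S.f
      τ₂ := 𝟙 _
      τ₃ := e.inv ≫ S.leftHomologyIso.hom
      comm₁₂ := by rw [Category.comp_id]; exact hfb
      comm₂₃ := by rw [Category.id_comp] }
  exact (ShortComplex.exact_iff_of_epi_of_isIso_of_mono φ).1 h'

/-- The kernel of `H(F S) ⟶ F H(S)` is `R¹F(ker f)`. -/
theorem exists_homology_map_seq (S : ShortComplex C) [Injective S.X₁] :
    ∃ (j : (F.rightDerived 1).obj (kernel S.f) ⟶ (S.map F).homology)
      (c : (S.map F).homology ⟶ F.obj S.homology) (w : j ≫ c = 0),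
      (ShortComplex.mk j c w).Exact ∧ Mono j := by
  obtain ⟨b, p, w, hbp, hfb⟩ := exists_homologySeq S
  obtain ⟨e⟩ := nonempty_rightDerived_one_iso F (imSeq_shortExact S.f)
  obtain ⟨d⟩ := nonempty_homology_map_iso F S
  haveI := hbp.mono_f
  have hex := hbp.exact.map_of_mono_of_preservesKernel F inferInstance inferInstance
  let fi := F.map (Abelian.factorThruImage S.f)
  let fl := F.map (kernel.lift S.g S.f S.zero)
  have hfl : fi ≫ F.map b = fl := by rw [← F.map_comp, hfb]
  let j₀ : cokernel fi ⟶ cokernel fl := cokernel.map fi fl (𝟙 _) (F.map b) (by rw [hfl, Category.id_comp])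
  let c₀ : cokernel fl ⟶ F.obj S.homology := cokernel.desc fl (F.map p) (by
    rw [← hfl, Category.assoc, ← F.map_comp, w, F.map_zero, comp_zero])
  have hj₀ : cokernel.π fi ≫ j₀ = F.map b ≫ cokernel.π fl := cokernel.π_desc _ _ _
  have hc₀ : cokernel.π fl ≫ c₀ = F.map p := cokernel.π_desc _ _ _
  haveI : Mono j₀ := Preadditive.mono_of_cancel_zero _ fun {A} x hx => by
    obtain ⟨A₁, π₁, _, y, hy⟩ := surjective_up_to_refinements_of_epi (cokernel.π fi) x
    have : (y ≫ F.map b) ≫ cokernel.π fl = 0 := by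
      rw [Category.assoc, ← hj₀, ← Category.assoc, ← hy, Category.assoc, hx, comp_zero]
    obtain ⟨A₂, π₂, _, z, hz⟩ := (ShortComplex.exact_cokernel fl).exact_up_to_refinements _ this
    have hz' : π₂ ≫ y = z ≫ fi := by
      rw [← cancel_mono (F.map b), Category.assoc, Category.assoc, hfl]
      exact hz
    rw [← cancel_epi π₁, hy, comp_zero, ← cancel_epi π₂, reassoc_of% hz', cokernel.condition, comp_zero,
      comp_zero]
  have hw₀ : j₀ ≫ c₀ = 0 := by
    rw [← cancel_epi (cokernel.π fi), reassoc_of% hj₀, hc₀, ← F.map_comp, w, F.map_zero, comp_zero]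
  have hex₀ : (ShortComplex.mk j₀ c₀ hw₀).Exact := by
    rw [ShortComplex.exact_iff_exact_up_to_refinements]
    intro A x hx
    obtain ⟨A₁, π₁, _, y, hy⟩ := surjective_up_to_refinements_of_epi (cokernel.π fl) x
    have hyp : y ≫ F.map p = 0 := by
      rw [← hc₀, ← Category.assoc, ← hy, Category.assoc, show x ≫ c₀ = 0 from hx, comp_zero]
    obtain ⟨A₂, π₂, _, z, hz⟩ := hex.exact_up_to_refinements y hyp
    refine ⟨A₂, π₂ ≫ π₁, epi_comp _ _, z ≫ cokernel.π fi, ?_⟩
    change (π₂ ≫ π₁) ≫ x = (z ≫ cokernel.π fi) ≫ j₀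
    rw [Category.assoc, hy, ← Category.assoc, show π₂ ≫ y = z ≫ F.map b from hz, Category.assoc,
      Category.assoc, hj₀]
  refine ⟨e.hom ≫ j₀ ≫ d.inv, d.hom ≫ c₀, by simp [hw₀], ?_, inferInstance⟩
  exact ShortComplex.exact_of_iso (S₁ := ShortComplex.mk j₀ c₀ hw₀)
    (ShortComplex.isoMk e.symm d.symm (Iso.refl _) (by simp) (by simp)) hex₀

end Groth.Agent.SiteCmp16
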