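import Groth.Agent.SiteCmp16.Main
import Groth.Agent.EtCmp.AdjExt
import Groth.Prelude.Def_CohSite

/-!
# Consequences of the vanishing in a comparison situation
-/

set_option autoImplicit false
set_option linter.all false
set_option backward.isDefEq.respectTransparency false
set_option backward.defeqAttrib.useBackward true

universe u

open CategoryTheory CategoryTheory.Limits CategoryTheory.Abelian Opposite

namespace Groth.Agent.SiteCmp16

variable {C : Type u} [SmallCategory C] {J J' : GrothendieckTopology C} {h : J' ≤ J}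
  {P : MorphismProperty C} {A' : ∀ X : C, ObjectProperty (Sheaf (J'.over X) AddCommGrpCat.{u})}
  [∀ X : C, WSerre.IsWeakSerre (A' X)]

namespace Situation

variable (hs : Situation h P A')
include hs

/-- The inverse image class is weak Serre. -/
theorem isWeakSerre_inverseImage (X : C) : WSerre.IsWeakSerre ((A' X).inverseImage (epsAt h X)) := by
  haveI := pullEps_preservesFiniteColimits_over h X
  haveI : ((A' X).inverseImage (epsAt h X)).ContainsZero := by
    obtain ⟨Z, hZ, hPZ⟩ := (A' X).exists_prop_of_containsZero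
    obtain ⟨Z₀, hZ₀⟩ := (inferInstance : HasZeroObject (Sheaf (J.over X) AddCommGrpCat.{u})).zero
    exact ⟨⟨Z₀, hZ₀, (A' X).prop_of_iso (hZ.iso ((epsAt h X).map_isZero hZ₀)) hPZ⟩⟩
  haveI : ((A' X).inverseImage (epsAt h X)).IsClosedUnderKernels := by
    refine ⟨fun Z hZ => ?_⟩
    obtain ⟨f, k, hk, hf⟩ := hZ
    exact (A' X).prop_of_isLimit_kernelFork (KernelFork.mapIsLimit k hk (epsAt h X)) hf.1 hf.2
  haveI : ((A' X).inverseImage (epsAt h X)).IsClosedUnderCokernels := by
    refine ⟨fun Z hZ => ?_⟩
    obtain @⟨X₁, X₂, f, k, hk, hf⟩ := hZ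
    let adj := adjEps (SiteCmp.over_le h X)
    have hM := (A' X).prop_cokernel ((epsAt h X).map f) hf.1 hf.2
    let e : pullEps.obj (cokernel ((epsAt h X).map f)) ≅ k.pt :=
      PreservesCokernel.iso pullEps ((epsAt h X).map f) ≪≫
        cokernel.mapIso _ f ((asIso adj.counit).app X₁) ((asIso adj.counit).app X₂)
          (adj.counit.naturality f) ≪≫ (cokernelIsCokernel f).coconePointUniqueUpToIso hk
    obtain ⟨e'⟩ := prop_obj_reflect (hs.isIso_unit X) hM e
    exact (A' X).prop_of_iso e' hM
  haveI : ((A' X).inverseImage (epsAt h X)).IsClosedUnderExtensions := by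
    refine ⟨fun {S} hS h₁ h₃ => ?_⟩
    haveI := hS.mono_f
    haveI : Epi ((epsAt h X).map S.g) :=
      SpecSeq.epi_map_of_isZero_rightDerived_one hS (hs.van 1 X _ h₁ 1 le_rfl le_rfl)
    exact (A' X).prop_X₂_of_shortExact (S := S.map (epsAt h X))
      { exact := hS.exact.map_of_mono_of_preservesKernel _ inferInstance inferInstance
        mono_f := (inferInstance : Mono ((epsAt h X).map S.f))
        epi_g := ‹Epi ((epsAt h X).map S.g)› } h₁ h₃
  exact {}

end Situation

/-- Free sheaves correspond under `ε⁻¹`. -/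
noncomputable def pullEpsSheafifyIso (h : J' ≤ J) :
    presheafToSheaf J' AddCommGrpCat.{u} ⋙ pullEps (J := J) (J' := J') ≅ presheafToSheaf J AddCommGrpCat.{u} :=
  ((sheafificationAdjunction J' AddCommGrpCat.{u}).comp (adjEps h)).leftAdjointUniq
    ((sheafificationAdjunction J AddCommGrpCat.{u}).ofNatIsoRight (G := _)
      (NatIso.ofComponents (fun F => Iso.refl _) (fun φ => (Category.comp_id _).trans (Category.id_comp _).symm)))

namespace Situation

variable (hs : Situation h P A')
include hs

/-- Cohomology of a sheaf in the class and of its pullback. -/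
theorem nonempty_hU_equiv (X : C) (F' : Sheaf (J'.over X) AddCommGrpCat.{u}) (hF' : A' X F') (n : ℕ)
    (U : Over X) :
    Nonempty (CohSite.HU F' n U ≃+
      CohSite.HU ((SiteCmp.epsShInv (SiteCmp.over_le h X) AddCommGrpCat.{u}).obj F') n U) := by
  haveI := pullEps_preservesFiniteColimits_over h X
  let hX := SiteCmp.over_le h X
  let adj := adjEps hX
  let F := (SiteCmp.epsShInv hX AddCommGrpCat.{u}).obj F'
  let eL : pullEps.obj F' ≅ F := (adj.leftAdjointUniq (SiteCmp.epsShAdj hX AddCommGrpCat.{u})).app F'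
  obtain ⟨e⟩ := prop_obj_reflect (hs.isIso_unit X) hF' eL
  have hac : ∀ q : ℕ, 0 < q → IsZero (((epsAt h X).rightDerived q).obj F) := fun q hq =>
    hs.van q X F ((A' X).prop_of_iso e hF') q hq le_rfl
  let P' : (Over X)ᵒᵖ ⥤ AddCommGrpCat.{u} := yoneda.obj U ⋙ AddCommGrpCat.free
  let M := (presheafToSheaf (J'.over X) AddCommGrpCat.{u}).obj P'
  let a : Ext M F' n ≃+ Ext M ((epsAt h X).obj F) n :=
    { toFun := fun x => x.comp (Ext.mk₀ e.hom) (add_zero n)
      invFun := fun x => x.comp (Ext.mk₀ e.inv) (add_zero n)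
      left_inv := fun x => by
        dsimp only
        rw [Ext.comp_assoc_of_second_deg_zero, Ext.mk₀_comp_mk₀, e.hom_inv_id, Ext.comp_mk₀_id]
      right_inv := fun x => by
        dsimp only
        rw [Ext.comp_assoc_of_second_deg_zero, Ext.mk₀_comp_mk₀, e.inv_hom_id, Ext.comp_mk₀_id]
      map_add' := fun _ _ => Ext.add_comp _ _ _ _ }
  exact ⟨a.trans ((AddEquiv.ofBijective (EtCmp.adjExtHom adj M F n)
    (EtCmp.bijective_adjExtHom adj M n F hac)).trans
    (SiteCoh.extAddEquivOfIso ((pullEpsSheafifyIso hX).app P').symm F n))⟩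

end Situation

end Groth.Agent.SiteCmp16
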