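import Groth.Agent.SiteCmp16.Sites
import Mathlib.CategoryTheory.Comma.Over.Pullback
import Mathlib.CategoryTheory.Adjunction.Whiskering
import Mathlib.CategoryTheory.Adjunction.Opposites

/-!
# An equalized class is killed locally on the base
-/

set_option autoImplicit false
set_option linter.all false
set_option backward.isDefEq.respectTransparency false
set_option backward.defeqAttrib.useBackward true

universe u

open CategoryTheory CategoryTheory.Limits Opposite

namespace Groth.Agent.SiteCmp16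

variable {C : Type u} [SmallCategory C] (K : GrothendieckTopology C) {X Y : C} (f : X ⟶ Y)
  [HasPullbacksAlong f]

/-- Direct image as sheafified precomposition with base change. -/
noncomputable def coindIso :
    coind K f ≅ sheafToPresheaf (K.over X) AddCommGrpCat.{u} ⋙
      ((Functor.whiskeringLeft _ _ AddCommGrpCat.{u}).obj (Over.pullback f).op ⋙
        presheafToSheaf (K.over Y) AddCommGrpCat.{u}) :=
  Functor.isoWhiskerLeft (coind K f) (sheafificationNatIso (K.over Y) AddCommGrpCat.{u}) ≪≫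
    (Functor.associator _ _ _).symm ≪≫
    Functor.isoWhiskerRight
      ((Over.map f).sheafPushforwardCocontinuousCompSheafToPresheafIso AddCommGrpCat.{u} (K.over X) (K.over Y))
      (presheafToSheaf (K.over Y) AddCommGrpCat.{u}) ≪≫ Functor.associator _ _ _ ≪≫
    Functor.isoWhiskerLeft _ (Functor.isoWhiskerRight
      (((Over.map f).op.ranAdjunction AddCommGrpCat.{u}).rightAdjointUniq
        (Adjunction.whiskerLeft AddCommGrpCat.{u} (Over.mapPullbackAdj f).op)) _)

/-- The presheaf `Z ↦ H^m(Z ×_Y X, F)`. -/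
noncomputable abbrev relCohPsh (F : Sheaf (K.over Y) AddCommGrpCat.{u}) (m : ℕ) :
    (Over Y)ᵒᵖ ⥤ AddCommGrpCat.{u} :=
  (Over.pullback f).op ⋙ (Over.map f).op ⋙ (Sheaf.cohomologyPresheafFunctor.{u} (K.over Y) m).obj F

/-- Base change followed by sheafification. -/
noncomputable abbrev pbSh : ((Over X)ᵒᵖ ⥤ AddCommGrpCat.{u}) ⥤ Sheaf (K.over Y) AddCommGrpCat.{u} :=
  (Functor.whiskeringLeft _ _ AddCommGrpCat.{u}).obj (Over.pullback f).op ⋙
    presheafToSheaf (K.over Y) AddCommGrpCat.{u}

/-- Higher direct images as sheafified cohomology presheaves. -/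
noncomputable def rightDerivedCoindIso₀ (m : ℕ) :
    (coind K f).rightDerived m ≅
      Sheaf.cohomologyPresheafFunctor.{u} (K.over X) m ⋙ pbSh K f :=
  SiteCoh.rightDerivedCongr (G' := sheafToPresheaf (K.over X) AddCommGrpCat.{u} ⋙ pbSh K f) (coindIso K f) m ≪≫
    SiteCoh.rightDerivedCompExactIso (sheafToPresheaf (K.over X) AddCommGrpCat.{u}) (pbSh K f) m ≪≫
    Functor.isoWhiskerRight (SiteCoh.sectionsDerivedIso (K.over X) m) (pbSh K f)

/-- Cohomology presheaves of a restriction. -/
noncomputable def cohPshRestrIso (F : Sheaf (K.over Y) AddCommGrpCat.{u}) (m : ℕ) :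
    (Over.map f).op ⋙ (Sheaf.cohomologyPresheafFunctor.{u} (K.over Y) m).obj F ≅
      (Sheaf.cohomologyPresheafFunctor.{u} (K.over X) m).obj ((restr K f).obj F) :=
  let e := (Over.map f).sheafPushforwardContinuousCompSheafToPresheafIso AddCommGrpCat.{u} (K.over X) (K.over Y)
  let c : Sheaf.cohomologyPresheafFunctor.{u} (K.over Y) m ⋙
      (Functor.whiskeringLeft _ _ AddCommGrpCat.{u}).obj (Over.map f).op ≅
      restr K f ⋙ Sheaf.cohomologyPresheafFunctor.{u} (K.over X) m :=
    SiteCoh.cohomologyPresheafCompIso (J := K.over Y) (K := K.over X) (Over.map f) (restr K f) e m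
  c.app F

/-- Higher direct images as sheafified relative cohomology. -/
noncomputable def rightDerivedCoindIso (F : Sheaf (K.over Y) AddCommGrpCat.{u}) (m : ℕ) :
    ((coind K f).rightDerived m).obj ((restr K f).obj F) ≅
      (presheafToSheaf (K.over Y) AddCommGrpCat.{u}).obj (relCohPsh K f F m) :=
  (rightDerivedCoindIso₀ K f m).app ((restr K f).obj F) ≪≫
    (pbSh K f).mapIso (cohPshRestrIso K f F m).symm

/-- The projection `Z ×_Y X ⟶ X` over `Y`. -/
noncomputable def projX (Z : Over Y) : (Over.map f).obj ((Over.pullback f).obj Z) ⟶ Over.mk f :=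
  Over.homMk (pullback.snd Z.hom f) rfl

theorem projX_comp {Z Z' : Over Y} (g : Z' ⟶ Z) :
    (Over.map f).map ((Over.pullback f).map g) ≫ projX f Z = projX f Z' :=
  Over.OverMorphism.ext (by
    change pullback.lift _ (pullback.snd Z'.hom f) _ ≫ pullback.snd Z.hom f = pullback.snd Z'.hom f
    rw [pullback.lift_snd])

theorem exists_cover_killing {J' J : GrothendieckTopology C} (h : J' ≤ J) {X Y : C} (f : X ⟶ Y)
    [HasPullbacksAlong f]
    (hcov : Sieve.ofArrows (fun _ : PUnit.{u + 1} => X) (fun _ => f) ∈ J Y)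
    (F : Sheaf (J'.over Y) AddCommGrpCat.{u}) (n : ℕ)
    (hG : Presheaf.IsSheaf (J.over Y) (((coind J' f).rightDerived (n + 1)).obj ((restr J' f).obj F)).obj)
    (θ : CohSite.HU F (n + 1) (Over.mk f))
    (hθ : ∀ (W : C) (p q : W ⟶ X) (hW : IsPullback p q f f),
      CohSite.res F (n + 1) (Over.homMk p rfl : Over.mk (p ≫ f) ⟶ Over.mk f) θ =
        CohSite.res F (n + 1) (Over.homMk q hW.w.symm : Over.mk (p ≫ f) ⟶ Over.mk f) θ) :
    ∃ (ι : Type u) (Z : ι → C) (g : ∀ i, Z i ⟶ Y), Sieve.ofArrows Z g ∈ J' Y ∧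
      ∀ (i : ι) (W : C) (p : W ⟶ Z i) (q : W ⟶ X), IsPullback p q (g i) f →
        CohSite.res F (n + 1) (Over.homMk q rfl : Over.mk (q ≫ f) ⟶ Over.mk f) θ = 0 := by
  let H := (Sheaf.cohomologyPresheafFunctor.{u} (J'.over Y) (n + 1)).obj F
  let Q := relCohPsh J' f F (n + 1)
  let θ' : ∀ Z : Over Y, Q.obj (op Z) := fun Z => H.map (projX f Z).op θ
  have hθ' : ∀ {Z Z' : Over Y} (g : Z' ⟶ Z), Q.map g.op (θ' Z) = θ' Z' := by
    intro Z Z' g
    change H.map ((Over.map f).map ((Over.pullback f).map g)).op (H.map (projX f Z).op θ) = _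
    rw [← ConcreteCategory.comp_apply, ← Functor.map_comp, ← op_comp, projX_comp]
  let G := (presheafToSheaf (J'.over Y) AddCommGrpCat.{u}).obj Q
  have hG' : Presheaf.IsSheaf (J.over Y) G.obj :=
    (Presheaf.isSheaf_of_iso_iff
      ((sheafToPresheaf _ _).mapIso (rightDerivedCoindIso J' f F (n + 1)))).1 hG
  let η : Q ⟶ G.obj := toSheafify (J'.over Y) Q
  obtain ⟨S₁, hS₁, hS₁0⟩ := SiteCoh.exists_cover_res_eq_zero F n θ
  have hf0 : η.app (op (Over.mk f)) (θ' (Over.mk f)) = 0 := by
    refine eq_of_locally_eq G.property hS₁ _ 0 fun Z' g hg => ?_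
    rw [map_zero]
    refine (ConcreteCategory.congr_hom (η.naturality g.op) (θ' (Over.mk f))).symm.trans ?_
    change η.app (op Z') (Q.map g.op (θ' (Over.mk f))) = 0
    rw [hθ' g]
    have hgw : g.left ≫ f = Z'.hom := Over.w g
    let l : pullback Z'.hom f ⟶ pullback f f :=
      pullback.lift (pullback.fst Z'.hom f ≫ g.left) (pullback.snd Z'.hom f)
        (by rw [Category.assoc, hgw, pullback.condition])
    let P₀ : Over Y := Over.mk (pullback.fst f f ≫ f)
    let lo : (Over.map f).obj ((Over.pullback f).obj Z') ⟶ P₀ := Over.homMk l (by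
      change l ≫ pullback.fst f f ≫ f = pullback.snd Z'.hom f ≫ f
      rw [pullback.condition, ← Category.assoc, pullback.lift_snd])
    let b : (Over.map f).obj ((Over.pullback f).obj Z') ⟶ Z' :=
      Over.homMk (pullback.fst Z'.hom f) pullback.condition
    let p₀ : P₀ ⟶ Over.mk f := Over.homMk (pullback.fst f f) rfl
    let q₀ : P₀ ⟶ Over.mk f := Over.homMk (pullback.snd f f) pullback.condition.symm
    have e1 : lo ≫ p₀ = b ≫ g := Over.OverMorphism.ext (pullback.lift_fst _ _ _)
    have e2 : lo ≫ q₀ = projX f Z' := Over.OverMorphism.ext (pullback.lift_snd _ _ _)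
    have h0 : θ' Z' = 0 := by
      change H.map (projX f Z').op θ = 0
      rw [← e2, op_comp, Functor.map_comp, ConcreteCategory.comp_apply,
        show H.map q₀.op θ = H.map p₀.op θ from (hθ _ _ _ (IsPullback.of_hasPullback f f)).symm,
        ← ConcreteCategory.comp_apply, ← Functor.map_comp, ← op_comp, e1, op_comp, Functor.map_comp,
        ConcreteCategory.comp_apply, show H.map g.op θ = 0 from hS₁0 g hg, map_zero]
    rw [h0, map_zero]
  let T := Over.mk (𝟙 Y)
  have hT0 : η.app (op T) (θ' T) = 0 := by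
    refine eq_of_locally_eq hG' (GrothendieckTopology.overEquiv_symm_mem_over J T _ hcov) _ 0
      fun V g hg => ?_
    rw [map_zero]
    rw [Sieve.overEquiv_symm_iff] at hg
    obtain ⟨_, a, _, ⟨⟩, ha⟩ := hg
    let ao : V ⟶ Over.mk f := Over.homMk a (by
      change a ≫ f = V.hom; rw [ha]; exact (Category.comp_id _).symm.trans (Over.w g))
    refine (ConcreteCategory.congr_hom (η.naturality g.op) (θ' T)).symm.trans ?_
    change η.app (op V) (Q.map g.op (θ' T)) = 0
    rw [hθ' g, ← hθ' ao]
    exact (ConcreteCategory.congr_hom (η.naturality ao.op) (θ' (Over.mk f))).trans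
      ((congrArg (G.obj.map ao.op).hom hf0).trans (map_zero _))
  let S := Presheaf.equalizerSieve (F := Q) (X := op T) (θ' T) 0
  have hS : S ∈ J'.over Y T :=
    Presheaf.equalizerSieve_mem (J'.over Y) η (θ' T) 0 (hT0.trans (map_zero _).symm)
  refine ⟨Σ Z : Over Y, { g : Z ⟶ T // S g }, fun i => i.1.left, fun i => i.2.1.left, ?_, ?_⟩
  · refine J'.superset_covering ?_ ((GrothendieckTopology.mem_over_iff J' S).1 hS)
    intro V g hg
    rw [Sieve.overEquiv_iff] at hg
    exact ⟨V, 𝟙 _, g, Presieve.ofArrows.mk (Y := fun i : Σ Z : Over Y, { g : Z ⟶ T // S g } => i.1.left)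
      (f := fun i => i.2.1.left) ⟨Over.mk (g ≫ T.hom), ⟨Over.homMk g, hg⟩⟩, Category.id_comp _⟩
  · rintro ⟨Z, g, hg⟩ W p q hW
    have h0 : θ' Z = 0 := by
      rw [← hθ' g]
      exact (show Q.map g.op (θ' T) = Q.map g.op 0 from hg).trans (map_zero _)
    have hgZ : Z.hom = g.left := ((Category.comp_id _).symm.trans (Over.w g)).symm
    let mo : Over.mk (q ≫ f) ⟶ (Over.map f).obj ((Over.pullback f).obj Z) :=
      Over.homMk (pullback.lift p q (by rw [hgZ]; exact hW.w)) (by
        change pullback.lift p q _ ≫ pullback.snd Z.hom f ≫ f = q ≫ f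
        rw [← Category.assoc, pullback.lift_snd])
    have e : mo ≫ projX f Z = (Over.homMk q rfl : Over.mk (q ≫ f) ⟶ Over.mk f) :=
      Over.OverMorphism.ext (pullback.lift_snd _ _ _)
    change H.map (Over.homMk q rfl : Over.mk (q ≫ f) ⟶ Over.mk f).op θ = 0
    rw [← e, op_comp, Functor.map_comp, ConcreteCategory.comp_apply, show H.map (projX f Z).op θ = 0 from h0,
      map_zero]

end Groth.Agent.SiteCmp16
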