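import Groth.Agent.SiteCmp16.Derived
import Groth.Prelude.Def_SiteCmp
import Groth.Prelude.Def_WeakSerre
import Mathlib.CategoryTheory.Abelian.Injective.Resolution
import Mathlib.Algebra.Homology.HomologySequence

/-!
# Comparison of cohomology for a reflective subcategory with exact reflector

Abstract form of the comparison of two topologies: `L ⊣ E` with `L` exact and `E` fully faithful.
-/

set_option autoImplicit false
set_option linter.all false
set_option backward.isDefEq.respectTransparency false
set_option backward.defeqAttrib.useBackward true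

universe v v' u u'

open CategoryTheory CategoryTheory.Limits

namespace Groth.Agent.SiteCmp16

section Exact

variable {C : Type u} [Category.{v} C] [Abelian C] [EnoughInjectives C] [HasInjectiveResolutions C]
  {D : Type u'} [Category.{v'} D] [Abelian D] (F : C ⥤ D) [F.Additive] [PreservesFiniteLimits F]
  (K : CochainComplex C ℕ) (hK : ∀ i, Injective (K.X i))

/-- The homology of `0 ⟶ K⁰ ⟶ K¹`. -/
theorem nonempty_kernel_d_zero_iso : Nonempty (kernel (K.d 0 1) ≅ K.homology 0) := by
  obtain ⟨b, p, w, hbp, -⟩ := exists_homologySeq (K.sc' 0 0 1)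
  have hf : (K.sc' 0 0 1).f = 0 := K.shape _ _ (by simp)
  have hz : IsZero (Abelian.image (K.sc' 0 0 1).f) := by
    haveI : Epi (Abelian.factorThruImage (K.sc' 0 0 1).f) := inferInstance
    rw [IsZero.iff_id_eq_zero, ← cancel_epi (Abelian.factorThruImage (K.sc' 0 0 1).f),
      ← cancel_mono (Abelian.image.ι (K.sc' 0 0 1).f), Category.comp_id, comp_zero, zero_comp]
    exact (Abelian.image.fac _).trans hf
  haveI := hbp.epi_g
  haveI : Mono p := (ShortComplex.exact_iff_mono (ShortComplex.mk b p w) (hz.eq_of_src b 0)).1 hbp.exact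
  haveI : IsIso p := isIso_of_mono_of_epi p
  exact ⟨asIso p ≪≫ (K.homologyIsoSc' 0 0 1 (by simp) (by simp)).symm⟩

include hK in
/-- The degree shift along the cycles of a complex exact in degrees `1, …, l`. -/
theorem nonempty_rightDerived_cycles_iso (l : ℕ) (hex : ∀ t, 1 ≤ t → t ≤ l → IsZero (K.homology t)) :
    ∀ q, 1 ≤ q → Nonempty ((F.rightDerived q).obj (kernel (K.d l (l + 1))) ≅
      (F.rightDerived (q + l)).obj (kernel (K.d 0 1))) := by
  induction l with
  | zero => exact fun q _ => ⟨Iso.refl _⟩
  | succ l ih =>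
    intro q hq
    obtain ⟨b, p, w, hbp, -⟩ := exists_homologySeq (K.sc' l (l + 1) (l + 2))
    have hH : IsZero (K.sc' l (l + 1) (l + 2)).homology :=
      (hex (l + 1) (by omega) le_rfl).of_iso (K.homologyIsoSc' l (l + 1) (l + 2) (by simp) (by simp)).symm
    haveI := hbp.mono_f
    haveI : Epi b := hbp.exact.epi_f (hH.eq_of_tgt _ _)
    haveI : IsIso b := isIso_of_mono_of_epi b
    haveI : Injective (imSeq (K.d l (l + 1))).X₂ := hK l
    obtain ⟨e⟩ := nonempty_rightDerived_shift F (imSeq_shortExact (K.d l (l + 1))) q hq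
    obtain ⟨e'⟩ := ih (fun t h1 h2 => hex t h1 (by omega)) (q + 1) (by omega)
    exact ⟨(F.rightDerived q).mapIso (asIso b).symm ≪≫ e ≪≫ e' ≪≫
      eqToIso (by rw [show q + 1 + l = q + (l + 1) by omega])⟩

include hK in
/-- For a complex of injectives exact in degrees `1, …, l`: `R^{l+1}F(H⁰) ⟶ H^{l+1}(F K) ⟶ F H^{l+1}(K)`. -/
theorem exists_homology_seq (l : ℕ) (hex : ∀ t, 1 ≤ t → t ≤ l → IsZero (K.homology t)) {M : C}
    (eM : K.homology 0 ≅ M) :
    ∃ (j : (F.rightDerived (l + 1)).obj M ⟶ ((F.mapHomologicalComplex _).obj K).homology (l + 1))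
      (c : ((F.mapHomologicalComplex _).obj K).homology (l + 1) ⟶ F.obj (K.homology (l + 1))) (w : j ≫ c = 0),
      (ShortComplex.mk j c w).Exact ∧ Mono j := by
  let S := K.sc' l (l + 1) (l + 2)
  haveI : Injective S.X₁ := hK l
  obtain ⟨j, c, w, hex', hj⟩ := exists_homology_map_seq F S
  obtain ⟨e₀⟩ := nonempty_kernel_d_zero_iso K
  obtain ⟨e⟩ := nonempty_rightDerived_cycles_iso F K hK l hex 1 le_rfl
  let a : (F.rightDerived 1).obj (kernel S.f) ≅ (F.rightDerived (l + 1)).obj M :=
    e ≪≫ eqToIso (by rw [Nat.add_comm]) ≪≫ (F.rightDerived (l + 1)).mapIso (e₀ ≪≫ eM)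
  let b : (S.map F).homology ≅ ((F.mapHomologicalComplex _).obj K).homology (l + 1) :=
    (((F.mapHomologicalComplex _).obj K).homologyIsoSc' l (l + 1) (l + 2) (by simp) (by simp)).symm
  let d : F.obj S.homology ≅ F.obj (K.homology (l + 1)) :=
    F.mapIso (K.homologyIsoSc' l (l + 1) (l + 2) (by simp) (by simp)).symm
  refine ⟨a.inv ≫ j ≫ b.hom, b.inv ≫ c ≫ d.hom, by simp [reassoc_of% w], ?_, inferInstance⟩
  exact ShortComplex.exact_of_iso (S₁ := ShortComplex.mk j c w)
    (ShortComplex.isoMk a b d (by simp) (by simp)) hex'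

include hK in
/-- A complex of injectives exact in degrees `1, …, i` computes `R^iF(H⁰)`. -/
theorem nonempty_rightDerived_homology_iso (i : ℕ) (hi : 1 ≤ i)
    (hex : ∀ t, 1 ≤ t → t ≤ i → IsZero (K.homology t)) {M : C} (eM : K.homology 0 ≅ M) :
    Nonempty ((F.rightDerived i).obj M ≅ ((F.mapHomologicalComplex _).obj K).homology i) := by
  obtain ⟨l, rfl⟩ : ∃ l, i = l + 1 := ⟨i - 1, by omega⟩
  obtain ⟨j, c, w, hex', hj⟩ := exists_homology_seq F K hK l (fun t h1 h2 => hex t h1 (by omega)) eM
  haveI : Epi j := hex'.epi_f ((F.map_isZero (hex (l + 1) (by omega) le_rfl)).eq_of_tgt _ _)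
  haveI : IsIso j := isIso_of_mono_of_epi j
  exact ⟨asIso j⟩

end Exact

section Reflective

variable {A : Type u} [Category.{v} A] [Abelian A] [EnoughInjectives A] [HasInjectiveResolutions A]
  {B : Type u'} [Category.{v'} B] [Abelian B]
  {L : B ⥤ A} {E : A ⥤ B} (adj : L ⊣ E) [L.Additive] [E.Additive]
  [PreservesFiniteLimits L] [PreservesFiniteColimits L] [PreservesFiniteLimits E] [IsIso adj.counit]
  (P : ObjectProperty B) [WSerre.IsWeakSerre P] (hP : ∀ M, P M → IsIso (adj.unit.app M))

/-- The vanishing property `V_n`. -/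
def Van (E : A ⥤ B) [E.Additive] (P : ObjectProperty B) (n : ℕ) : Prop :=
  ∀ F : A, P (E.obj F) → ∀ i, 1 ≤ i → i ≤ n → IsZero ((E.rightDerived i).obj F)

/-- `L H^i(E K) ≅ H^i(K)`. -/
noncomputable def homologyAdjIso (K : CochainComplex A ℕ) (i : ℕ) :
    L.obj (((E.mapHomologicalComplex _).obj K).homology i) ≅ K.homology i :=
  ((((E.mapHomologicalComplex _).obj K).sc i).mapHomologyIso L).symm ≪≫
    ShortComplex.homologyMapIso ((K.sc i).mapNatIso (asIso adj.counit))

theorem homologyAdjIso_naturality {K K' : CochainComplex A ℕ} (φ : K ⟶ K') (i : ℕ) :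
    L.map (HomologicalComplex.homologyMap ((E.mapHomologicalComplex _).map φ) i) ≫
      (homologyAdjIso adj K' i).hom =
    (homologyAdjIso adj K i).hom ≫ HomologicalComplex.homologyMap φ i := by
  have h₁ := ShortComplex.mapHomologyIso_inv_naturality
    ((HomologicalComplex.shortComplexFunctor B (ComplexShape.up ℕ) i).map
      ((E.mapHomologicalComplex _).map φ)) L
  simp only [homologyAdjIso, Iso.trans_hom, Iso.symm_hom, Category.assoc]
  refine ((Category.assoc _ _ _).symm.trans ((congrArg (· ≫ _) h₁).trans (Category.assoc _ _ _))).trans ?_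
  congr 1
  rw [ShortComplex.homologyMapIso_hom, ShortComplex.homologyMapIso_hom]
  refine (ShortComplex.homologyMap_comp _ _).symm.trans
    (Eq.trans ?_ (ShortComplex.homologyMap_comp _ _))
  congr 1
  ext
  all_goals exact adj.counit.naturality _

include adj in
theorem preservesInjectiveObjects_of_reflective : E.PreservesInjectiveObjects :=
  haveI : L.PreservesMonomorphisms := inferInstance
  Functor.preservesInjectiveObjects_of_adjunction_of_preservesMonomorphisms adj

variable {adj P}

include hP in
/-- A `P`-object is the value of `E` at its reflection. -/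
theorem prop_obj_reflect {M : B} (hM : P M) {X : A} (e : L.obj M ≅ X) :
    Nonempty (M ≅ E.obj X) :=
  haveI := hP M hM
  ⟨asIso (adj.unit.app M) ≪≫ E.mapIso e⟩

theorem mono_unit_of_mono {M : B} {X : A} (j : M ⟶ E.obj X) [Mono j] : Mono (adj.unit.app M) := by
  haveI : IsIso (adj.unit.app (E.obj X)) := by
    have h := adj.right_triangle_components X
    haveI : IsIso (E.map (adj.counit.app X)) := inferInstance
    haveI : IsIso (adj.unit.app (E.obj X) ≫ E.map (adj.counit.app X)) := by rw [h]; exact IsIso.id _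
    exact IsIso.of_isIso_comp_right _ (E.map (adj.counit.app X))
  exact mono_of_mono_fac (adj.unit.naturality j).symm

theorem epi_of_unit {M N : B} (g : M ⟶ N) (hM : IsIso (adj.unit.app M)) (hN : Mono (adj.unit.app N))
    (hg : IsIso (L.map g)) : Epi g := by
  refine Preadditive.epi_of_cancel_zero _ fun {Z} k hk => ?_
  have fac : g ≫ adj.unit.app N = adj.unit.app M ≫ E.map (L.map g) := adj.unit.naturality g
  haveI : IsIso (E.map (L.map g)) := inferInstance
  haveI : IsIso (adj.unit.app M ≫ E.map (L.map g)) := IsIso.comp_isIso' hM inferInstance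
  have hepi : Epi (adj.unit.app N) := epi_of_epi_fac fac
  haveI : IsIso (adj.unit.app N) := @isIso_of_mono_of_epi B _ _ _ _ (adj.unit.app N) hN hepi
  haveI : IsIso (g ≫ adj.unit.app N) := by rw [fac]; infer_instance
  haveI : IsIso g := IsIso.of_isIso_comp_right g (adj.unit.app N)
  rw [← cancel_epi g, hk, comp_zero]

include hP in
/-- Vanishing on cycles, given the homology in degrees `< m`. -/
theorem isZero_rightDerived_cycles {n : ℕ} (hV : Van E P n) (K : CochainComplex A ℕ)
    (hK : ∀ i, Injective (K.X i)) (m : ℕ) (hm : m ≤ n) (hH : ∀ l < m, P (E.obj (K.homology l))) :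
    ∀ l j, 1 ≤ j → l + j ≤ m → IsZero ((E.rightDerived j).obj (kernel (K.d l (l + 1)))) := by
  intro l
  induction l with
  | zero =>
    intro j hj hjm
    obtain ⟨e⟩ := nonempty_kernel_d_zero_iso K
    exact (hV _ (hH 0 (by omega)) j hj (by omega)).of_iso ((E.rightDerived j).mapIso e)
  | succ l ih =>
    intro j hj hjm
    obtain ⟨b, p, w, hbp, -⟩ := exists_homologySeq (K.sc' l (l + 1) (l + 2))
    refine isZero_rightDerived_X₂ E hbp j ?_ ?_
    · haveI : Injective (imSeq (K.d l (l + 1))).X₂ := hK l
      obtain ⟨e⟩ := nonempty_rightDerived_shift E (imSeq_shortExact (K.d l (l + 1))) j hj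
      exact (ih (j + 1) (by omega) (by omega)).of_iso e
    · exact (hV _ (hH (l + 1) (by omega)) j hj (by omega)).of_iso
        ((E.rightDerived j).mapIso (K.homologyIsoSc' l (l + 1) (l + 2) (by simp) (by simp)).symm)

include hP in
theorem mono_unit_homology {n : ℕ} (hV : Van E P n) (K : CochainComplex A ℕ)
    (hK : ∀ i, Injective (K.X i)) (i : ℕ) (hi : i ≤ n) (hH : ∀ l < i, P (E.obj (K.homology l))) :
    Mono (adj.unit.app (((E.mapHomologicalComplex _).obj K).homology i)) := by
  rcases i with _ | l
  · let S := K.sc' 0 0 1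
    haveI : Injective S.X₁ := hK 0
    obtain ⟨j, c, w, hex, hj⟩ := exists_homology_map_seq E S
    have hz : IsZero ((E.rightDerived 1).obj (kernel S.f)) := by
      haveI : IsIso (kernel.ι S.f) := by
        have : S.f = 0 := K.shape _ _ (by simp)
        rw [this]; infer_instance
      haveI : Injective (kernel S.f) := Injective.of_iso (asIso (kernel.ι S.f)).symm inferInstance
      exact Functor.isZero_rightDerived_obj_injective_succ E 0 _
    haveI : Mono c := hex.mono_g (hz.eq_of_src _ _)
    exact mono_unit_of_mono ((((E.mapHomologicalComplex _).obj K).homologyIsoSc' 0 0 1 (by simp) (by simp)).hom ≫ c)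
  · let S := K.sc' l (l + 1) (l + 2)
    haveI : Injective S.X₁ := hK l
    obtain ⟨j, c, w, hex, hj⟩ := exists_homology_map_seq E S
    haveI : Mono c := hex.mono_g
      ((isZero_rightDerived_cycles hP hV K hK (l + 1) hi hH l 1 le_rfl le_rfl).eq_of_src _ _)
    exact mono_unit_of_mono
      ((((E.mapHomologicalComplex _).obj K).homologyIsoSc' l (l + 1) (l + 2) (by simp) (by simp)).hom ≫ c)

include hP in
/-- The homology of the quotient complex. -/
theorem epi_homologyMap_quotient {n : ℕ} (hV : Van E P n) {T : ShortComplex (CochainComplex A ℕ)}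
    (hT : T.ShortExact) (hT' : (T.map (E.mapHomologicalComplex _)).ShortExact)
    (hQ : ∀ i, Injective (T.X₃.X i)) (h₀ : ∀ i, i ≤ n → IsZero (T.X₁.homology (i + 1)))
    (h₁ : ∀ i, i ≤ n → P (((E.mapHomologicalComplex _).obj T.X₁).homology i))
    (h₂ : ∀ i, i ≤ n → P (((E.mapHomologicalComplex _).obj T.X₂).homology i)) :
    ∀ i, i ≤ n → Epi (HomologicalComplex.homologyMap ((E.mapHomologicalComplex _).map T.g) i) ∧
      P (E.obj (T.X₃.homology i)) := by
  intro i
  induction i using Nat.strong_induction_on with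
  | _ i ih =>
    intro hi
    let u := HomologicalComplex.homologyMap ((E.mapHomologicalComplex _).map T.f) i
    let v := HomologicalComplex.homologyMap ((E.mapHomologicalComplex _).map T.g) i
    have huv : (ShortComplex.mk u v (by
        rw [← HomologicalComplex.homologyMap_comp, ← Functor.map_comp, T.zero, Functor.map_zero,
          HomologicalComplex.homologyMap_zero])).Exact := hT'.homology_exact₂ i
    let M₀ := cokernel u
    have hM₀ : P M₀ := P.prop_cokernel u (h₁ i hi) (h₂ i hi)
    let g : M₀ ⟶ _ := cokernel.desc u v (by rw [← HomologicalComplex.homologyMap_comp, ← Functor.map_comp, T.zero, Functor.map_zero,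
      HomologicalComplex.homologyMap_zero])
    have hg : cokernel.π u ≫ g = v := cokernel.π_desc _ _ _
    haveI : Mono g := huv.mono_cokernelDesc
    haveI : Epi (HomologicalComplex.homologyMap T.g i) :=
      (hT.homology_exact₃ i (i + 1) (by simp)).epi_f ((h₀ i hi).eq_of_tgt _ _)
    haveI : Epi (L.map v) := by
      have : L.map v = (homologyAdjIso adj T.X₂ i).hom ≫ HomologicalComplex.homologyMap T.g i ≫
          (homologyAdjIso adj T.X₃ i).inv := by
        rw [← Category.assoc, ← homologyAdjIso_naturality, Category.assoc, Iso.hom_inv_id, Category.comp_id]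
      rw [this]; infer_instance
    haveI : Epi (L.map g) := by
      haveI : Epi (L.map (cokernel.π u) ≫ L.map g) := by rw [← L.map_comp, hg]; infer_instance
      exact epi_of_epi (L.map (cokernel.π u)) _
    haveI : IsIso (L.map g) := isIso_of_mono_of_epi _
    haveI := hP M₀ hM₀
    haveI : Mono (adj.unit.app (((E.mapHomologicalComplex _).obj T.X₃).homology i)) :=
      mono_unit_homology hP hV T.X₃ hQ i hi fun l hl => (ih l hl (by omega)).2
    haveI : Epi g := epi_of_unit (adj := adj) g inferInstance inferInstance inferInstance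
    haveI : IsIso g := isIso_of_mono_of_epi g
    refine ⟨by change Epi v; rw [← hg]; infer_instance, ?_⟩
    obtain ⟨e⟩ := prop_obj_reflect hP hM₀ (L.mapIso (asIso g) ≪≫ homologyAdjIso adj T.X₃ i)
    exact P.prop_of_iso e hM₀

include hP in
/-- Injectivity in degree `n + 1`. -/
theorem mono_homologyMap_succ {n : ℕ} (hV : Van E P n) {T : ShortComplex (CochainComplex A ℕ)}
    (hT : T.ShortExact) (hT' : (T.map (E.mapHomologicalComplex _)).ShortExact)
    (hQ : ∀ i, Injective (T.X₃.X i)) (h₀ : ∀ i, i ≤ n → IsZero (T.X₁.homology (i + 1)))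
    (h₁ : ∀ i, i ≤ n → P (((E.mapHomologicalComplex _).obj T.X₁).homology i))
    (h₂ : ∀ i, i ≤ n → P (((E.mapHomologicalComplex _).obj T.X₂).homology i)) :
    Mono (HomologicalComplex.homologyMap ((E.mapHomologicalComplex _).map T.f) (n + 1)) := by
  haveI := (epi_homologyMap_quotient hP hV hT hT' hQ h₀ h₁ h₂ n le_rfl).1
  refine (hT'.homology_exact₁ n (n + 1) (by simp)).mono_g ?_
  refine (cancel_epi (HomologicalComplex.homologyMap ((E.mapHomologicalComplex _).map T.g) n)).1 ?_
  rw [comp_zero]
  exact hT'.comp_δ n (n + 1) (by simp)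

end Reflective

end Groth.Agent.SiteCmp16
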