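import Groth.Agent.SiteCmp16.Sites

/-!
# Vanishing of `R^iε_*` in a comparison situation
-/

set_option autoImplicit false
set_option linter.all false
set_option backward.isDefEq.respectTransparency false
set_option backward.defeqAttrib.useBackward true

universe u

open CategoryTheory CategoryTheory.Limits Opposite

namespace Groth.Agent.SiteCmp16

/-- The hypotheses of a comparison situation used below. -/
structure Situation {C : Type u} [SmallCategory C] {J J' : GrothendieckTopology C} (h : J' ≤ J)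
    (P : MorphismProperty C) (A' : ∀ X : C, ObjectProperty (Sheaf (J'.over X) AddCommGrpCat.{u})) : Prop where
  h2 : ∀ ⦃X Y : C⦄ (f : X ⟶ Y) (F' : Sheaf (J'.over Y) AddCommGrpCat.{u}), A' Y F' →
      A' X ((CohSite.push (J'.over Y) (J'.over X) (Over.map f)).obj F')
  h3 : ∀ (X : C) (F' : Sheaf (J'.over X) AddCommGrpCat.{u}), A' X F' → Presheaf.IsSheaf (J.over X) F'.obj
  h4 : ∀ ⦃X Y : C⦄ (f : X ⟶ Y)
      [((Over.map f).sheafPushforwardCocontinuous AddCommGrpCat.{u} (J'.over X) (J'.over Y)).Additive],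
      P f → ∀ (F' : Sheaf (J'.over X) AddCommGrpCat.{u}), A' X F' → ∀ i : ℕ,
        A' Y ((((Over.map f).sheafPushforwardCocontinuous AddCommGrpCat.{u} (J'.over X) (J'.over Y)).rightDerived i).obj F')
  h5 : ∀ (U : C) (S : Sieve U), S ∈ J U → ∃ (ι : Type u) (V : ι → C) (v : ∀ j, V j ⟶ U),
      Sieve.ofArrows V v ∈ J' U ∧ ∀ j, ∃ (W : C) (w : W ⟶ V j), P w ∧
        Sieve.ofArrows (fun _ : PUnit.{u + 1} => W) (fun _ => w) ∈ J (V j) ∧
        ∃ (κ : Type u) (Wk : κ → C) (wk : ∀ k, Wk k ⟶ W), Sieve.ofArrows Wk wk ∈ J' W ∧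
          ∀ k, S.arrows (wk k ≫ w ≫ v j)

variable {C : Type u} [SmallCategory C] {J J' : GrothendieckTopology C} {h : J' ≤ J}
  {P : MorphismProperty C} {A' : ∀ X : C, ObjectProperty (Sheaf (J'.over X) AddCommGrpCat.{u})}
  [∀ X : C, WSerre.IsWeakSerre (A' X)]

/-- `ε_*` on a localized site. -/
noncomputable abbrev epsAt (h : J' ≤ J) (X : C) :
    Sheaf (J.over X) AddCommGrpCat.{u} ⥤ Sheaf (J'.over X) AddCommGrpCat.{u} :=
  SiteCmp.epsSh (SiteCmp.over_le h X) AddCommGrpCat.{u}

theorem pullEps_preservesFiniteColimits_over (h : J' ≤ J) (X : C) :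
    PreservesFiniteColimits (pullEps (J := J.over X) (J' := J'.over X)) :=
  pullEps_preservesFiniteColimits' (SiteCmp.over_le h X)

namespace Situation

variable (hs : Situation h P A')
include hs

theorem isIso_unit (X : C) : ∀ M, A' X M → IsIso ((adjEps (SiteCmp.over_le h X)).unit.app M) :=
  fun M hM => isIso_unit_of_isSheaf _ M (hs.h3 X M hM)

/-- Restriction preserves the class. -/
theorem prop_restr {X Y : C} (f : X ⟶ Y) {F : Sheaf (J.over Y) AddCommGrpCat.{u}}
    (hF : A' Y ((epsAt h Y).obj F)) : A' X ((epsAt h X).obj ((restr J f).obj F)) :=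
  (A' X).prop_of_iso ((restrSq h f).app F).symm (hs.h2 f _ hF)

/-- The step at the base object. -/
theorem eq_zero_base {n : ℕ} (hV : ∀ X, Van (epsAt h X) (A' X) n) {W Y : C} (f : W ⟶ Y) (hf : P f)
    (hcov : Sieve.ofArrows (fun _ : PUnit.{u + 1} => W) (fun _ => f) ∈ J Y)
    (F : Sheaf (J.over Y) AddCommGrpCat.{u}) (hF : A' Y ((epsAt h Y).obj F))
    (σ : (((epsAt h Y).rightDerived (n + 1)).obj F).obj.obj (op (Over.mk (𝟙 Y))))
    (hσ : (((epsAt h Y).rightDerived (n + 1)).obj F).obj.map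
      (Over.homMk f : Over.mk f ⟶ Over.mk (𝟙 Y)).op σ = 0) : σ = 0 := by
  haveI := pullEps_preservesFiniteColimits_over h Y
  haveI := pullEps_preservesFiniteColimits_over h W
  obtain ⟨M, N, T, i, j, c, w, hex, hi, hj, hN⟩ := exists_detection (adjEps (SiteCmp.over_le h Y)) (A' Y)
    (hs.isIso_unit Y) (adjEps (SiteCmp.over_le h W)) (A' W) (coind J f) (coind J' f) (coindSq h f)
    (hV Y) (hV W) (fun M' hM' q => hs.h4 f hf M' hM' q) (restrAdj J f) (mono_unit_restrAdj J f hcov)
    hF (hs.prop_restr f hF)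
  let Z : (Over Y)ᵒᵖ := op (Over.mk (𝟙 Y))
  have hc : c.hom.app Z (i.hom.app Z σ) = 0 := by
    refine coind_eq_zero J' f T _ fun V g => ?_
    have hg : V.hom ≫ f = g.left := ((Over.w g).symm.trans (Category.comp_id _))
    have hfac : g = (Over.homMk V.hom : (Over.map f).obj V ⟶ Over.mk f) ≫
        (Over.homMk f : Over.mk f ⟶ Over.mk (𝟙 Y)) := Over.OverMorphism.ext hg.symm
    have : ((coind J' f).obj T).obj.map g.op (c.hom.app Z (i.hom.app Z σ)) =
        (i ≫ c).hom.app _ ((((epsAt h Y).rightDerived (n + 1)).obj F).obj.map g.op σ) :=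
      (ConcreteCategory.congr_hom ((i ≫ c).hom.naturality g.op) σ).symm
    rw [this, hfac, op_comp, Functor.map_comp, ConcreteCategory.comp_apply, hσ, map_zero, map_zero]
  have hmap := hex.map_of_mono_of_preservesKernel
    (sheafToPresheaf (J'.over Y) AddCommGrpCat.{u} ⋙ (evaluation _ _).obj Z) hj inferInstance
  obtain ⟨ν, hν⟩ := (ShortComplex.ab_exact_iff _).1 hmap (i.hom.app Z σ) hc
  change j.hom.app Z ν = i.hom.app Z σ at hν
  obtain ⟨S, hS, hS0⟩ := exists_sieve_of_isZero (SiteCmp.over_le h Y) _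
    (isZero_pullEps_rightDerived (SiteCmp.over_le h Y) F n) σ
  have hjinj : ∀ V, Function.Injective (j.hom.app V) := fun V => by
    rw [← AddCommGrpCat.mono_iff_injective]
    haveI : Mono ((sheafToPresheaf (J'.over Y) AddCommGrpCat.{u}).map j) := inferInstance
    exact inferInstanceAs (Mono (((sheafToPresheaf (J'.over Y) AddCommGrpCat.{u}).map j).app V))
  have hν0 : ν = 0 := by
    refine eq_of_locally_eq (hs.h3 Y N hN) hS ν 0 fun V g hg => hjinj _ ?_
    rw [map_zero]
    refine ((ConcreteCategory.congr_hom (j.hom.naturality g.op) ν).trans ?_).trans (map_zero _).symm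
    change M.obj.map g.op (j.hom.app Z ν) = 0
    rw [hν]
    exact ((ConcreteCategory.congr_hom (i.hom.naturality g.op) σ).symm.trans
      ((congrArg (i.hom.app (op V)).hom (hS0 g hg)).trans (map_zero _)))
  have hiinj : Function.Injective (i.hom.app Z) := by
    rw [← AddCommGrpCat.mono_iff_injective]
    haveI : Mono ((sheafToPresheaf (J'.over Y) AddCommGrpCat.{u}).map i) := inferInstance
    exact inferInstanceAs (Mono (((sheafToPresheaf (J'.over Y) AddCommGrpCat.{u}).map i).app Z))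
  exact hiinj (by rw [← hν, hν0, map_zero, map_zero])

/-- The step at an arbitrary object. -/
theorem eq_zero_of_res {n : ℕ} (hV : ∀ X, Van (epsAt h X) (A' X) n) {X : C}
    (F : Sheaf (J.over X) AddCommGrpCat.{u}) (hF : A' X ((epsAt h X).obj F)) {V W : C} (u : V ⟶ X)
    (f : W ⟶ V) (hf : P f) (hcov : Sieve.ofArrows (fun _ : PUnit.{u + 1} => W) (fun _ => f) ∈ J V)
    (τ : (((epsAt h X).rightDerived (n + 1)).obj F).obj.obj (op (Over.mk u)))
    (hτ : (((epsAt h X).rightDerived (n + 1)).obj F).obj.map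
      (Over.homMk f : Over.mk (f ≫ u) ⟶ Over.mk u).op τ = 0) : τ = 0 := by
  let R := ((epsAt h X).rightDerived (n + 1)).obj F
  let e := (rightDerivedRestrIso h u (n + 1)).app F
  let a : (Over.map u).obj (Over.mk (𝟙 V)) ≅ Over.mk u :=
    Over.isoMk (Iso.refl _) (by change 𝟙 _ ≫ u = 𝟙 _ ≫ u; rfl)
  let b : (Over.map u).obj (Over.mk f) ≅ Over.mk (f ≫ u) :=
    Over.isoMk (Iso.refl _) (by change 𝟙 _ ≫ f ≫ u = f ≫ u; rw [Category.id_comp])
  let m : (Over.map u).obj (Over.mk f) ⟶ (Over.map u).obj (Over.mk (𝟙 V)) :=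
    (Over.map u).map (Over.homMk f)
  let τ' : ((restr J' u).obj R).obj.obj (op (Over.mk (𝟙 V))) := R.obj.map a.hom.op τ
  have h1 : m ≫ a.hom = b.hom ≫ (Over.homMk f : Over.mk (f ≫ u) ⟶ Over.mk u) :=
    Over.OverMorphism.ext (by change f ≫ 𝟙 _ = 𝟙 _ ≫ f; simp)
  have h2 : R.obj.map m.op (R.obj.map a.hom.op τ) = 0 := by
    rw [← ConcreteCategory.comp_apply, ← Functor.map_comp, ← op_comp, h1, op_comp, Functor.map_comp,
      ConcreteCategory.comp_apply, hτ, map_zero]
  have h3 : e.hom.hom.app _ τ' = 0 := by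
    refine hs.eq_zero_base hV f hf hcov _ (hs.prop_restr u hF) _ ?_
    exact (ConcreteCategory.congr_hom
      (e.hom.hom.naturality (Over.homMk f : Over.mk f ⟶ Over.mk (𝟙 V)).op) τ').symm.trans
      ((congrArg (e.hom.hom.app (op (Over.mk f))).hom h2).trans (map_zero _))
  have h4 : τ' = 0 := by
    have := congrArg (e.inv.hom.app (op (Over.mk (𝟙 V)))) h3
    rw [map_zero] at this
    exact ((ConcreteCategory.congr_hom
      (congrArg (fun φ => φ.hom.app (op (Over.mk (𝟙 V)))) e.hom_inv_id) τ').symm).trans this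
  have h5 : τ = R.obj.map a.inv.op (R.obj.map a.hom.op τ) := by
    rw [← ConcreteCategory.comp_apply, ← Functor.map_comp, ← op_comp, Iso.inv_hom_id, op_id,
      CategoryTheory.Functor.map_id]
    rfl
  rw [h5, show R.obj.map a.hom.op τ = 0 from h4, map_zero]

/-- `V_n ⟹ V_{n+1}`. -/
theorem isZero_succ {n : ℕ} (hV : ∀ X, Van (epsAt h X) (A' X) n) (X : C)
    (F : Sheaf (J.over X) AddCommGrpCat.{u}) (hF : A' X ((epsAt h X).obj F)) :
    IsZero (((epsAt h X).rightDerived (n + 1)).obj F) := by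
  let R := ((epsAt h X).rightDerived (n + 1)).obj F
  have hzero : ∀ (U : Over X) (σ : R.obj.obj (op U)), σ = 0 := by
    intro U σ
    obtain ⟨S, hS, hS0⟩ := exists_sieve_of_isZero (SiteCmp.over_le h X) R
      (isZero_pullEps_rightDerived (SiteCmp.over_le h X) F n) σ
    obtain ⟨ι, V, v, hv, hW⟩ := hs.h5 U.left (Sieve.overEquiv U S)
      ((GrothendieckTopology.mem_over_iff J S).1 hS)
    refine eq_of_locally_eq R.property
      (GrothendieckTopology.overEquiv_symm_mem_over J' U _ hv) σ 0 fun Z g hg => ?_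
    rw [map_zero]
    rw [Sieve.overEquiv_symm_iff] at hg
    obtain ⟨_, b, _, ⟨j⟩, hb⟩ := hg
    obtain ⟨W, w, hw, hwcov, κ, Wk, wk, hwk, hk⟩ := hW j
    let gv : Over.mk (v j ≫ U.hom) ⟶ U := Over.homMk (v j)
    let bo : Z ⟶ Over.mk (v j ≫ U.hom) := Over.homMk b (by
      change b ≫ v j ≫ U.hom = Z.hom; rw [← Category.assoc, hb, Over.w g])
    have hg' : g = bo ≫ gv := Over.OverMorphism.ext hb.symm
    suffices hτ : R.obj.map gv.op σ = 0 by
      rw [hg', op_comp, Functor.map_comp, ConcreteCategory.comp_apply, hτ, map_zero]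
    refine hs.eq_zero_of_res hV F hF (v j ≫ U.hom) w hw hwcov _ ?_
    let gw : Over.mk (w ≫ v j ≫ U.hom) ⟶ Over.mk (v j ≫ U.hom) := Over.homMk w
    change R.obj.map gw.op (R.obj.map gv.op σ) = 0
    refine eq_of_locally_eq R.property
      (GrothendieckTopology.overEquiv_symm_mem_over J' (Over.mk (w ≫ v j ≫ U.hom)) _ hwk) _ 0
      fun Z' g' hg2 => ?_
    rw [map_zero, ← ConcreteCategory.comp_apply, ← ConcreteCategory.comp_apply, ← Functor.map_comp,
      ← Functor.map_comp, ← op_comp, ← op_comp]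
    rw [Sieve.overEquiv_symm_iff] at hg2
    obtain ⟨_, c, _, ⟨k⟩, hc⟩ := hg2
    have hk' := (Sieve.overEquiv_iff S _).1 (hk k)
    have hgc : g' ≫ gw ≫ gv =
        (Over.homMk c (by
          change c ≫ (wk k ≫ w ≫ v j) ≫ U.hom = Z'.hom
          rw [show Z'.hom = g'.left ≫ w ≫ v j ≫ U.hom from (Over.w g').symm, ← hc]
          simp) : Z' ⟶ Over.mk ((wk k ≫ w ≫ v j) ≫ U.hom)) ≫ Over.homMk (wk k ≫ w ≫ v j) :=
      Over.OverMorphism.ext (by
        change g'.left ≫ w ≫ v j = c ≫ wk k ≫ w ≫ v j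
        rw [← hc]; simp)
    exact hS0 _ (by rw [Category.assoc, hgc]; exact S.downward_closed hk' _)
  rw [IsZero.iff_id_eq_zero]
  apply (sheafToPresheaf _ _).map_injective
  ext ⟨U⟩ x
  exact hzero U x

/-- `V_n` holds for all `n`. -/
theorem van : ∀ (n : ℕ) (X : C), Van (epsAt h X) (A' X) n := by
  intro n
  induction n with
  | zero => exact fun X F hF i h1 h2 => absurd h1 (by omega)
  | succ n ih =>
    intro X F hF i h1 h2
    rcases Nat.lt_or_ge i (n + 1) with h' | h'
    · exact ih X F hF i h1 (by omega)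
    · obtain rfl : i = n + 1 := by omega
      exact hs.isZero_succ ih X F hF

end Situation

end Groth.Agent.SiteCmp16
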