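import Groth.Agent.SiteCmp16.Square
import Groth.Agent.SiteCoh.Cohomology
import Groth.Agent.SiteCoh.Restrict
import Groth.Agent.SiteCoh.Leray
import Groth.Prelude.Def_CohSite

/-!
# The functors of a comparison of two topologies on localized sites
-/

set_option autoImplicit false
set_option linter.all false
set_option backward.isDefEq.respectTransparency false
set_option backward.defeqAttrib.useBackward true

universe u

open CategoryTheory CategoryTheory.Limits Opposite

namespace Groth.Agent.SiteCmp16

variable {C : Type u} [SmallCategory C]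

section Eps

variable {J J' : GrothendieckTopology C} (h : J' ≤ J)

/-- `ε⁻¹` as sheafification for the finer topology. -/
noncomputable abbrev pullEps : Sheaf J' AddCommGrpCat.{u} ⥤ Sheaf J AddCommGrpCat.{u} :=
  sheafToPresheaf J' AddCommGrpCat.{u} ⋙ presheafToSheaf J AddCommGrpCat.{u}

/-- `ε⁻¹ ⊣ ε_*`. -/
noncomputable def adjEps : pullEps (J := J) (J' := J') ⊣ SiteCmp.epsSh h AddCommGrpCat.{u} :=
  (sheafificationAdjunction J AddCommGrpCat.{u}).restrictFullyFaithful
    (iC := sheafToPresheaf J' AddCommGrpCat.{u}) (iD := 𝟭 _)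
    (fullyFaithfulSheafToPresheaf J' AddCommGrpCat.{u}) (Functor.FullyFaithful.id _)
    (Functor.rightUnitor _).symm
    (NatIso.ofComponents (fun F => Iso.refl _) (fun φ => (Category.comp_id _).trans (Category.id_comp _).symm))

theorem epsSh_full : (SiteCmp.epsSh h AddCommGrpCat.{u}).Full where
  map_surjective {F G} φ := ⟨⟨{ app := fun U => φ.hom.app U, naturality := fun _ _ i => φ.hom.naturality i }⟩, by
    ext U : 3; rfl⟩

theorem epsSh_faithful : (SiteCmp.epsSh h AddCommGrpCat.{u}).Faithful where
  map_injective {F G f g} e := by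
    ext U : 3
    exact congr($(e).hom.app U)

instance isIso_counit_adjEps : IsIso (adjEps h).counit :=
  haveI := epsSh_full h
  haveI := epsSh_faithful h
  inferInstance

instance pullEps_preservesFiniteLimits : PreservesFiniteLimits (pullEps (J := J) (J' := J')) := by
  haveI : PreservesFiniteLimits (sheafToPresheaf J' AddCommGrpCat.{u}) :=
    ⟨fun _ _ _ => inferInstance⟩
  exact comp_preservesFiniteLimits _ _

instance epsSh_preservesFiniteLimits : PreservesFiniteLimits (SiteCmp.epsSh h AddCommGrpCat.{u}) :=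
  haveI : (SiteCmp.epsSh h AddCommGrpCat.{u}).IsRightAdjoint := (adjEps h).isRightAdjoint
  ⟨fun _ _ _ => inferInstance⟩

instance epsSh_additive : (SiteCmp.epsSh h AddCommGrpCat.{u}).Additive where

/-- An exact left adjoint. -/
theorem pullEps_preservesFiniteColimits' (h : J' ≤ J) : PreservesFiniteColimits (pullEps (J := J) (J' := J')) :=
  haveI : (pullEps (J := J) (J' := J')).IsLeftAdjoint := (adjEps h).isLeftAdjoint
  ⟨fun _ _ _ => inferInstance⟩

instance pullEps_additive : (pullEps (J := J) (J' := J')).Additive :=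
  haveI : (sheafToPresheaf J' AddCommGrpCat.{u}).Additive := {}
  inferInstanceAs (sheafToPresheaf J' AddCommGrpCat.{u} ⋙ presheafToSheaf J AddCommGrpCat.{u}).Additive

/-- A `J`-sheaf in the coarser category has invertible unit. -/
theorem isIso_unit_of_isSheaf (M : Sheaf J' AddCommGrpCat.{u}) (hM : Presheaf.IsSheaf J M.obj) :
    IsIso ((adjEps h).unit.app M) := by
  haveI := epsSh_full h
  haveI := epsSh_faithful h
  exact (adjEps h).isIso_unit_app_of_iso
    (((fullyFaithfulSheafToPresheaf J' AddCommGrpCat.{u}).preimageIso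
      (Iso.refl M.obj) : M ≅ (SiteCmp.epsSh h AddCommGrpCat.{u}).obj ⟨M.obj, hM⟩))

include h in
/-- Sections of a sheaf killed by `ε⁻¹` are locally zero for the finer topology. -/
theorem exists_sieve_of_isZero (M : Sheaf J' AddCommGrpCat.{u}) (hM : IsZero (pullEps (J := J).obj M))
    {U : C} (x : M.obj.obj (op U)) :
    ∃ S ∈ J U, ∀ ⦃V : C⦄ (f : V ⟶ U), S.arrows f → M.obj.map f.op x = 0 := by
  have : toSheafify J M.obj = 0 :=
    ((sheafToPresheaf J AddCommGrpCat.{u}).map_isZero hM).eq_of_tgt _ _
  refine ⟨_, Presheaf.equalizerSieve_mem J (toSheafify J M.obj) x (0 : M.obj.obj (op U)) ?_, fun V f hf => ?_⟩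
  · rw [this]; rfl
  · exact hf.trans (map_zero _)

/-- `ε⁻¹` kills positive derived images. -/
theorem isZero_pullEps_rightDerived (F : Sheaf J AddCommGrpCat.{u}) (n : ℕ) :
    IsZero ((pullEps (J := J) (J' := J')).obj (((SiteCmp.epsSh h AddCommGrpCat.{u}).rightDerived (n + 1)).obj F)) := by
  haveI := pullEps_preservesFiniteColimits' h
  exact (SiteCoh.isZero_rightDerived_id F n).of_iso
    (((SiteCoh.rightDerivedCompExactIso (SiteCmp.epsSh h AddCommGrpCat.{u}) (pullEps (J := J) (J' := J')) (n + 1)).symm ≪≫
      SiteCoh.rightDerivedCongr (asIso (adjEps h).counit) (n + 1)).app F)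

end Eps

/-- Separatedness of a sheaf of abelian groups. -/
theorem eq_of_locally_eq {J : GrothendieckTopology C} {P : Cᵒᵖ ⥤ AddCommGrpCat.{u}}
    (hP : Presheaf.IsSheaf J P) {U : C} {S : Sieve U} (hS : S ∈ J U) (x y : P.obj (op U))
    (hxy : ∀ ⦃V : C⦄ (f : V ⟶ U), S.arrows f → P.map f.op x = P.map f.op y) : x = y :=
  (((isSheaf_iff_isSheaf_of_type _ _).1
    ((Presheaf.isSheaf_iff_isSheaf_comp J P (forget AddCommGrpCat.{u})).1 hP)).isSeparated S hS).ext hxy

section Map

variable (K : GrothendieckTopology C) {X Y : C} (f : X ⟶ Y)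

/-- Restriction along `f`. -/
noncomputable abbrev restr : Sheaf (K.over Y) AddCommGrpCat.{u} ⥤ Sheaf (K.over X) AddCommGrpCat.{u} :=
  CohSite.push (K.over Y) (K.over X) (Over.map f)

/-- Direct image along `f`. -/
noncomputable abbrev coind : Sheaf (K.over X) AddCommGrpCat.{u} ⥤ Sheaf (K.over Y) AddCommGrpCat.{u} :=
  (Over.map f).sheafPushforwardCocontinuous AddCommGrpCat.{u} (K.over X) (K.over Y)

/-- The adjunction. -/
noncomputable def restrAdj : restr K f ⊣ coind K f :=
  (Over.map f).sheafAdjunctionCocontinuous AddCommGrpCat.{u} (K.over X) (K.over Y)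

instance restr_preservesFiniteColimits : PreservesFiniteColimits (restr K f) :=
  haveI : (restr K f).IsLeftAdjoint := (restrAdj K f).isLeftAdjoint
  ⟨fun _ _ _ => inferInstance⟩

instance restr_preservesFiniteLimits : PreservesFiniteLimits (restr K f) :=
  SiteCoh.push_preservesFiniteLimits _ _ _

instance coind_additive : (coind K f).Additive := (restrAdj K f).right_adjoint_additive

instance coind_preservesFiniteLimits : PreservesFiniteLimits (coind K f) :=
  haveI : (coind K f).IsRightAdjoint := (restrAdj K f).isRightAdjoint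
  ⟨fun _ _ _ => inferInstance⟩

/-- The objects of the costructured arrows of `Over.map f` over `op V`. -/
def mapCostructured (V : Over Y) :
    Discrete {g : V.left ⟶ X // g ≫ f = V.hom} ⥤ CostructuredArrow (Over.map f).op (op V) :=
  Discrete.functor fun g => CostructuredArrow.mk (Y := op (Over.mk g.1))
    (Over.homMk (𝟙 V.left) ((Category.id_comp _).trans g.2) :
      V ⟶ (Over.map f).obj (Over.mk g.1)).op

instance mapCostructured_final (V : Over Y) : (mapCostructured f V).Final := by
  constructor
  intro d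
  have key : ∀ x : StructuredArrow d (mapCostructured f V),
      x.hom.left.unop.left = d.hom.unop.left ∧ x.right.as.1 = d.hom.unop.left ≫ d.left.unop.hom := by
    intro x
    have h1 : x.hom.left.unop.left = d.hom.unop.left := by
      have := congrArg CommaMorphism.left (congrArg Quiver.Hom.unop (CostructuredArrow.w x.hom))
      exact (Category.id_comp _).symm.trans this
    refine ⟨h1, ?_⟩
    have h2 := Over.w x.hom.left.unop
    rw [h1] at h2
    exact h2.symm
  have : Nonempty (StructuredArrow d (mapCostructured f V)) :=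
    ⟨StructuredArrow.mk (Y := Discrete.mk ⟨d.hom.unop.left ≫ d.left.unop.hom,
        (Category.assoc _ _ _).trans (Over.w d.hom.unop)⟩)
      (CostructuredArrow.homMk (Over.homMk d.hom.unop.left : Over.mk _ ⟶ d.left.unop).op
        (Quiver.Hom.unop_inj (Over.OverMorphism.ext (Category.id_comp _))))⟩
  refine zigzag_isConnected fun a b => Zigzag.of_hom ?_
  obtain ⟨ha, ha'⟩ := key a
  obtain ⟨hb, hb'⟩ := key b
  refine StructuredArrow.homMk (eqToHom (Discrete.ext (Subtype.ext (ha'.trans hb'.symm)))) ?_
  apply CostructuredArrow.hom_ext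
  apply Quiver.Hom.unop_inj
  apply Over.OverMorphism.ext
  obtain ⟨⟨⟨⟩⟩, ⟨⟨ga, pa⟩⟩, ma⟩ := a
  obtain ⟨⟨⟨⟩⟩, ⟨⟨gb, pb⟩⟩, mb⟩ := b
  obtain rfl : ga = gb := ha'.trans hb'.symm
  simp only [eqToHom_refl, CategoryTheory.Functor.map_id, Category.comp_id]
  exact ha.trans hb.symm

instance restr_preservesInjectiveObjects : (restr K f).PreservesInjectiveObjects := by
  have : PreservesFiniteLimits
      ((Over.map f).op.lan : ((Over X)ᵒᵖ ⥤ AddCommGrpCat.{u}) ⥤ (Over Y)ᵒᵖ ⥤ AddCommGrpCat.{u}) :=
    SiteCoh.lan_preservesFiniteLimits_of_discrete_final _ fun V =>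
      ⟨_, mapCostructured f V.unop, mapCostructured_final f V.unop⟩
  have : PreservesFiniteLimits ((Over.map f).op.lan ⋙ presheafToSheaf (K.over Y) AddCommGrpCat.{u}) :=
    comp_preservesFiniteLimits _ _
  have : PreservesFiniteLimits
      (Functor.sheafPullbackConstruction.sheafPullback (Over.map f) AddCommGrpCat.{u}
        (K.over X) (K.over Y)) := by
    haveI : PreservesFiniteLimits (sheafToPresheaf (K.over X) AddCommGrpCat.{u}) :=
      ⟨fun _ _ _ => inferInstance⟩
    unfold Functor.sheafPullbackConstruction.sheafPullback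
    exact comp_preservesFiniteLimits _ _
  haveI : PreservesFiniteLimits ((Over.map f).sheafPullback AddCommGrpCat.{u} (K.over X) (K.over Y)) :=
    preservesFiniteLimits_of_natIso
      (Functor.sheafPullbackConstruction.sheafPullbackIso (Over.map f) AddCommGrpCat.{u}
        (K.over X) (K.over Y)).symm
  exact Functor.preservesInjectiveObjects_of_adjunction_of_preservesMonomorphisms
    ((Over.map f).sheafAdjunctionContinuous AddCommGrpCat.{u} (K.over X) (K.over Y))

/-- A section of a direct image killed on every object over `X` is zero. -/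
theorem coind_eq_zero (T : Sheaf (K.over X) AddCommGrpCat.{u}) {Z : Over Y}
    (x : ((coind K f).obj T).obj.obj (op Z))
    (hx : ∀ (W : Over X) (g : (Over.map f).obj W ⟶ Z), ((coind K f).obj T).obj.map g.op x = 0) : x = 0 := by
  refine Concrete.isLimit_ext _ ((Over.map f).op.isPointwiseRightKanExtensionRanCounit T.obj (op Z)) x 0
    fun j => ?_
  refine Eq.trans ?_ (map_zero _).symm
  change ((Over.map f).op.ranCounit.app T.obj).app j.right (((coind K f).obj T).obj.map j.hom x) = 0
  rw [← Quiver.Hom.op_unop j.hom]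
  exact (congrArg _ (hx j.right.unop j.hom.unop)).trans (map_zero _)

/-- For a covering `f`, the unit is a monomorphism. -/
theorem mono_unit_restrAdj (hcov : Sieve.ofArrows (fun _ : PUnit.{u + 1} => X) (fun _ => f) ∈ K Y)
    (F : Sheaf (K.over Y) AddCommGrpCat.{u}) : Mono ((restrAdj K f).unit.app F) := by
  refine (sheafToPresheaf _ _).mono_of_mono_map ?_
  haveI : ∀ Z, Mono (((restrAdj K f).unit.app F).hom.app Z) := fun Z => by
    rw [AddCommGrpCat.mono_iff_injective]
    refine (injective_iff_map_eq_zero _).2 fun (x : F.obj.obj Z) hx => ?_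
    obtain ⟨Z⟩ := Z
    have hS : (Sieve.overEquiv Z).symm
        ((Sieve.ofArrows (fun _ : PUnit.{u + 1} => X) (fun _ => f)).pullback Z.hom) ∈ K.over Y Z :=
      GrothendieckTopology.overEquiv_symm_mem_over K Z _ (K.pullback_stable Z.hom hcov)
    refine eq_of_locally_eq F.property hS x 0 fun V g hg => ?_
    rw [map_zero]
    rw [Sieve.overEquiv_symm_iff] at hg
    obtain ⟨_, a, _, ⟨⟩, hq⟩ := hg
    have hV : a ≫ f = V.hom := by rw [hq, Over.w g]
    let e : (Over.map f).obj (Over.mk a) ≅ V := Over.isoMk (Iso.refl _) (by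
      change 𝟙 _ ≫ V.hom = a ≫ f; rw [Category.id_comp, hV])
    let y : F.obj.obj (op ((Over.map f).obj (Over.mk a))) := F.obj.map (e.hom ≫ g).op x
    have h1 : ((restrAdj K f).unit.app F).hom.app (op ((Over.map f).obj (Over.mk a))) y = 0 := by
      refine (ConcreteCategory.congr_hom (((restrAdj K f).unit.app F).hom.naturality (e.hom ≫ g).op) x).trans ?_
      exact (congrArg (((restr K f ⋙ coind K f).obj F).obj.map (e.hom ≫ g).op).hom hx).trans (map_zero _)
    have h2 : ((restrAdj K f).counit.app ((restr K f).obj F)).hom.app (op (Over.mk a))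
        (((restrAdj K f).unit.app F).hom.app (op ((Over.map f).obj (Over.mk a))) y) = y :=
      ConcreteCategory.congr_hom
        (congrArg (fun φ => φ.hom.app (op (Over.mk a))) ((restrAdj K f).left_triangle_components F)) y
    have h3 : y = 0 := by rw [← h2, h1, map_zero]
    have : F.obj.map g.op x = F.obj.map e.inv.op y := by
      rw [show y = F.obj.map (e.hom ≫ g).op x from rfl]
      refine Eq.trans ?_ (ConcreteCategory.congr_hom (F.obj.map_comp (e.hom ≫ g).op e.inv.op) x)
      rw [← op_comp, Iso.inv_hom_id_assoc]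
    rw [this, h3, map_zero]
  exact @NatTrans.mono_of_mono_app _ _ _ _ _ _ (((restrAdj K f).unit.app F).hom) this

end Map

section Squares

variable {J J' : GrothendieckTopology C} (h : J' ≤ J) {X Y : C} (f : X ⟶ Y)

/-- `ε` commutes with direct images. -/
noncomputable def coindSq :
    SiteCmp.epsSh (SiteCmp.over_le h X) AddCommGrpCat.{u} ⋙ coind J' f ≅
      coind J f ⋙ SiteCmp.epsSh (SiteCmp.over_le h Y) AddCommGrpCat.{u} :=
  NatIso.ofComponents
    (fun F => (fullyFaithfulSheafToPresheaf (J'.over Y) AddCommGrpCat.{u}).preimageIso (Iso.refl _))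
    (fun {F G} φ => (sheafToPresheaf _ _).map_injective
      ((Category.comp_id _).trans (Category.id_comp _).symm))

/-- `ε` commutes with restriction. -/
noncomputable def restrSq :
    restr J f ⋙ SiteCmp.epsSh (SiteCmp.over_le h X) AddCommGrpCat.{u} ≅
      SiteCmp.epsSh (SiteCmp.over_le h Y) AddCommGrpCat.{u} ⋙ restr J' f :=
  NatIso.ofComponents
    (fun F => (fullyFaithfulSheafToPresheaf (J'.over X) AddCommGrpCat.{u}).preimageIso (Iso.refl _))
    (fun {F G} φ => (sheafToPresheaf _ _).map_injective
      ((Category.comp_id _).trans (Category.id_comp _).symm))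

/-- `R^iε` commutes with restriction. -/
noncomputable def rightDerivedRestrIso (i : ℕ) :
    (SiteCmp.epsSh (SiteCmp.over_le h Y) AddCommGrpCat.{u}).rightDerived i ⋙ restr J' f ≅
      restr J f ⋙ (SiteCmp.epsSh (SiteCmp.over_le h X) AddCommGrpCat.{u}).rightDerived i :=
  (SiteCoh.rightDerivedCompExactIso _ (restr J' f) i).symm ≪≫
    SiteCoh.rightDerivedCongr (restrSq h f).symm i ≪≫
    SiteCoh.rightDerivedExactCompIso (restr J f) _ i

end Squares

end Groth.Agent.SiteCmp16
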