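import Groth.Agent.SiteCmp16.Generic

/-!
# Comparison of direct images for two reflective pairs
-/

set_option autoImplicit false
set_option linter.all false
set_option backward.isDefEq.respectTransparency false
set_option backward.defeqAttrib.useBackward true

universe v v' u u'

open CategoryTheory CategoryTheory.Limits

namespace Groth.Agent.SiteCmp16

variable {A : Type u} [Category.{v} A] [Abelian A] [EnoughInjectives A] [HasInjectiveResolutions A]
  {B : Type u'} [Category.{v'} B] [Abelian B]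
  {L : B ⥤ A} {E : A ⥤ B} (adj : L ⊣ E) [L.Additive] [E.Additive]
  [PreservesFiniteLimits L] [PreservesFiniteColimits L] [PreservesFiniteLimits E] [IsIso adj.counit]
  (P : ObjectProperty B) [WSerre.IsWeakSerre P] (hP : ∀ M, P M → IsIso (adj.unit.app M))

variable {A₁ : Type u} [Category.{v} A₁] [Abelian A₁] [EnoughInjectives A₁] [HasInjectiveResolutions A₁]
  {B₁ : Type u'} [Category.{v'} B₁] [Abelian B₁] [EnoughInjectives B₁] [HasInjectiveResolutions B₁]
  {L₁ : B₁ ⥤ A₁} {E₁ : A₁ ⥤ B₁} (adj₁ : L₁ ⊣ E₁) [L₁.Additive] [E₁.Additive]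
  [PreservesFiniteLimits L₁] [PreservesFiniteColimits L₁] [PreservesFiniteLimits E₁] [IsIso adj₁.counit]
  (P₁ : ObjectProperty B₁)
  (p : A₁ ⥤ A) [p.Additive] (p' : B₁ ⥤ B) [p'.Additive] [PreservesFiniteLimits p']
  (sq : E₁ ⋙ p' ≅ p ⋙ E)

include adj₁ in
omit [IsIso adj₁.counit] in
theorem injective_obj_resolution {F : A₁} (I : InjectiveResolution F) (i : ℕ) :
    Injective ((((E₁.mapHomologicalComplex _).obj I.cocomplex)).X i) :=
  haveI : L₁.PreservesMonomorphisms := inferInstance
  haveI : E₁.PreservesInjectiveObjects :=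
    Functor.preservesInjectiveObjects_of_adjunction_of_preservesMonomorphisms adj₁
  E₁.injective_obj_of_injective (I.injective i)

/-- `H⁰` of `E` applied to a resolution. -/
noncomputable def homologyZeroIso {F : A₁} (I : InjectiveResolution F) :
    ((E₁.mapHomologicalComplex _).obj I.cocomplex).homology 0 ≅ E₁.obj F :=
  (I.isoRightDerivedObj E₁ 0).symm ≪≫ E₁.rightDerivedZeroIsoSelf.app F

omit [IsIso adj₁.counit] [PreservesFiniteLimits L₁] [PreservesFiniteColimits L₁] [L₁.Additive] in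
theorem isZero_homology_of_van {n : ℕ} (hV : Van E₁ P₁ n) {F : A₁} (hF : P₁ (E₁.obj F))
    (I : InjectiveResolution F) (t : ℕ) (h1 : 1 ≤ t) (h2 : t ≤ n) :
    IsZero (((E₁.mapHomologicalComplex _).obj I.cocomplex).homology t) :=
  (hV F hF t h1 h2).of_iso (I.isoRightDerivedObj E₁ t).symm

/-- Transport of homology along `sq`. -/
noncomputable def sqHomologyIso (K : CochainComplex A₁ ℕ) (i : ℕ) :
    ((p'.mapHomologicalComplex _).obj ((E₁.mapHomologicalComplex _).obj K)).homology i ≅
      ((E.mapHomologicalComplex _).obj ((p.mapHomologicalComplex _).obj K)).homology i :=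
  (HomologicalComplex.homologyFunctor B _ i).mapIso ((NatIso.mapHomologicalComplex sq _).app K)

include adj₁ sq in
omit [IsIso adj₁.counit] in
/-- `R^i p'(E₁F) ≅ H^i(E p I)` for `i ≤ n`. -/
theorem nonempty_rightDerived_push_iso {n : ℕ} (hV : Van E₁ P₁ n) {F : A₁} (hF : P₁ (E₁.obj F))
    (I : InjectiveResolution F) (i : ℕ) (hi : i ≤ n) :
    Nonempty ((p'.rightDerived i).obj (E₁.obj F) ≅
      ((E.mapHomologicalComplex _).obj ((p.mapHomologicalComplex _).obj I.cocomplex)).homology i) := by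
  rcases Nat.eq_zero_or_pos i with rfl | hi0
  · let K := (E₁.mapHomologicalComplex (ComplexShape.up ℕ)).obj I.cocomplex
    obtain ⟨e⟩ := nonempty_homology_map_iso p' (K.sc' 0 0 1)
    obtain ⟨e₀⟩ := nonempty_kernel_d_zero_iso K
    have hz : p'.map (kernel.lift (K.sc' 0 0 1).g (K.sc' 0 0 1).f (K.sc' 0 0 1).zero) = 0 := by
      have : kernel.lift (K.sc' 0 0 1).g (K.sc' 0 0 1).f (K.sc' 0 0 1).zero = 0 := by
        rw [← cancel_mono (kernel.ι (K.sc' 0 0 1).g), kernel.lift_ι, zero_comp]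
        exact K.shape _ _ (by simp)
      rw [this, p'.map_zero]
    exact ⟨p'.rightDerivedZeroIsoSelf.app _ ≪≫ p'.mapIso ((e₀ ≪≫ homologyZeroIso I).symm) ≪≫
      (cokernelIsoOfEq hz ≪≫ cokernelZeroIsoTarget).symm ≪≫ e.symm ≪≫
      (((p'.mapHomologicalComplex _).obj K).homologyIsoSc' 0 0 1 (by simp) (by simp)).symm ≪≫
      sqHomologyIso p p' sq I.cocomplex 0⟩
  · obtain ⟨e⟩ := nonempty_rightDerived_homology_iso p' ((E₁.mapHomologicalComplex _).obj I.cocomplex)
      (injective_obj_resolution adj₁ I) i hi0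
      (fun t h1 h2 => isZero_homology_of_van P₁ hV hF I t h1 (by omega)) (homologyZeroIso I)
    exact ⟨e ≪≫ sqHomologyIso p p' sq I.cocomplex i⟩

include hP adj₁ sq in
omit [IsIso adj₁.counit] in
/-- `R^i p'(E₁F) ≅ E(R^i p F)` for `i ≤ n`. -/
theorem nonempty_rightDerived_eps_iso {n : ℕ} (hV : Van E₁ P₁ n)
    (hp : ∀ (M : B₁), P₁ M → ∀ i, P ((p'.rightDerived i).obj M))
    {F : A₁} (hF : P₁ (E₁.obj F)) (i : ℕ) (hi : i ≤ n) :
    Nonempty ((p'.rightDerived i).obj (E₁.obj F) ≅ E.obj ((p.rightDerived i).obj F)) := by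
  let I := injectiveResolution F
  obtain ⟨e⟩ := nonempty_rightDerived_push_iso adj₁ P₁ p p' sq hV hF I i hi
  have hM := P.prop_of_iso e (hp _ hF i)
  obtain ⟨e'⟩ := prop_obj_reflect hP hM
    (homologyAdjIso adj ((p.mapHomologicalComplex _).obj I.cocomplex) i ≪≫ (I.isoRightDerivedObj p i).symm)
  exact ⟨e ≪≫ e'⟩

variable [EnoughInjectives B]

include hP adj₁ sq in
/-- The key injection in degree `n + 1`: `R^{n+1}E F` is detected after pulling back. -/
theorem exists_detection {n : ℕ} (hV : Van E P n) (hV₁ : Van E₁ P₁ n)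
    (hp : ∀ (M : B₁), P₁ M → ∀ i, P ((p'.rightDerived i).obj M))
    {r : A ⥤ A₁} [r.Additive] [PreservesFiniteLimits r] [PreservesFiniteColimits r]
    [r.PreservesInjectiveObjects] (radj : r ⊣ p) (hu : ∀ F, Mono (radj.unit.app F))
    {F : A} (hF : P (E.obj F)) (hrF : P₁ (E₁.obj (r.obj F))) :
    ∃ (M N : B) (T : B₁) (i : (E.rightDerived (n + 1)).obj F ⟶ M) (j : N ⟶ M) (c : M ⟶ p'.obj T)
      (w : j ≫ c = 0), (ShortComplex.mk j c w).Exact ∧ Mono i ∧ Mono j ∧ P N := by
  haveI : r.PreservesMonomorphisms := inferInstance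
  haveI : p.PreservesInjectiveObjects :=
    Functor.preservesInjectiveObjects_of_adjunction_of_preservesMonomorphisms radj
  let J := injectiveResolution F
  let I₁ := SiteCoh.mapResolution r J
  let K := (p.mapHomologicalComplex (ComplexShape.up ℕ)).obj I₁.cocomplex
  let u : J.cocomplex ⟶ K :=
    { f := fun i => radj.unit.app (J.cocomplex.X i)
      comm' := fun i j _ => (radj.unit.naturality (J.cocomplex.d i j)).symm }
  let T₀ : ShortComplex (CochainComplex A ℕ) := ShortComplex.mk u (cokernel.π u) (cokernel.condition u)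
  haveI : Mono u := by
    haveI : ∀ i, Mono (u.f i) := fun i => hu _
    exact HomologicalComplex.mono_of_mono_f u inferInstance
  have hT₀ : T₀.ShortExact :=
    { exact := ShortComplex.exact_cokernel u
      mono_f := inferInstanceAs (Mono u)
      epi_g := inferInstanceAs (Epi (cokernel.π u)) }
  have hdeg : ∀ i, (T₀.map (HomologicalComplex.eval A (ComplexShape.up ℕ) i)).ShortExact := fun i =>
    hT₀.map_of_exact _
  have hsplit : ∀ i, Nonempty (T₀.map (HomologicalComplex.eval A (ComplexShape.up ℕ) i)).Splitting := by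
    intro i
    haveI : Injective (T₀.map (HomologicalComplex.eval A (ComplexShape.up ℕ) i)).X₁ := J.injective i
    exact ⟨(hdeg i).splittingOfInjective⟩
  have hQ : ∀ i, Injective (T₀.X₃.X i) := by
    intro i
    obtain ⟨s⟩ := hsplit i
    haveI : Injective (T₀.X₂.X i) := p.injective_obj_of_injective (I₁.injective i)
    let s₀ : T₀.X₃.X i ⟶ T₀.X₂.X i := s.s
    let g₀ : T₀.X₂.X i ⟶ T₀.X₃.X i := (cokernel.π u).f i
    have hs : s₀ ≫ g₀ = 𝟙 _ := s.s_g
    exact ⟨fun g f _ => ⟨Injective.factorThru (g ≫ s₀) f ≫ g₀, by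
      rw [Injective.comp_factorThru_assoc, Category.assoc, hs, Category.comp_id]⟩⟩
  have hT₀' : (T₀.map (E.mapHomologicalComplex _)).ShortExact :=
    HomologicalComplex.shortExact_of_degreewise_shortExact _ fun i => by
      obtain ⟨s⟩ := hsplit i
      exact (s.map E).shortExact
  have h₀ : ∀ i, i ≤ n → IsZero (T₀.X₁.homology (i + 1)) := fun i _ =>
    (J.cocomplex_exactAt_succ i).isZero_homology
  have h₁ : ∀ i, i ≤ n → P (((E.mapHomologicalComplex _).obj T₀.X₁).homology i) := by
    intro i hi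
    rcases Nat.eq_zero_or_pos i with rfl | hi0
    · exact P.prop_of_iso (homologyZeroIso J).symm hF
    · obtain ⟨Z, hZ, hPZ⟩ := P.exists_prop_of_containsZero
      exact P.prop_of_iso (hZ.iso (isZero_homology_of_van P hV hF J i hi0 hi)) hPZ
  have h₂ : ∀ i, i ≤ n → P (((E.mapHomologicalComplex _).obj T₀.X₂).homology i) := by
    intro i hi
    obtain ⟨e⟩ := nonempty_rightDerived_push_iso adj₁ P₁ p p' sq hV₁ hrF I₁ i hi
    exact P.prop_of_iso e (hp _ hrF i)
  haveI := mono_homologyMap_succ hP hV hT₀ hT₀' hQ h₀ h₁ h₂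
  obtain ⟨j, c, w, hex, hj⟩ := exists_homology_seq p' ((E₁.mapHomologicalComplex _).obj I₁.cocomplex)
    (injective_obj_resolution adj₁ I₁) n (fun t h1 h2 => isZero_homology_of_van P₁ hV₁ hrF I₁ t h1 h2)
    (homologyZeroIso I₁)
  let σ := sqHomologyIso p p' sq I₁.cocomplex (n + 1)
  let i₀ : (E.rightDerived (n + 1)).obj F ⟶
      ((E.mapHomologicalComplex _).obj K).homology (n + 1) :=
    (J.isoRightDerivedObj E (n + 1)).hom ≫
      HomologicalComplex.homologyMap ((E.mapHomologicalComplex _).map T₀.f) (n + 1)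
  refine ⟨_, _, _, i₀ ≫ σ.inv, j, c, w, hex, ?_, hj, hp _ hrF (n + 1)⟩
  haveI : Mono i₀ := mono_comp _ _
  exact mono_comp _ _

end Groth.Agent.SiteCmp16
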